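import Cfsg.Agent.Lib.TwistFive.Levi
import Cfsg.Agent.Lib.Schur.E6Two.GroupGens
import Cfsg.Agent.Lib.SLPresent.Injective
import Cfsg.Agent.Lib.SLPresent.Target
import Cfsg.Agent.Lib.KnownSimple.GLFourTwo

/-!
The twelve fixed roots orthogonal to `p₃` and `p₅` generate an image of `SL₄(2) ≅ Alt 8` commuting
with the element of order five of the Levi factor.
-/

set_option autoImplicit false
set_option maxRecDepth 100000
set_option maxHeartbeats 400000

namespace CfsgLib.TwistFive

open Cfsg.Lie CfsgLib.ChevStr CfsgLib.Twisted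
open CfsgLib.Schur.E6Two (rt rho gGL gGL_fixed gGL_mem exists_omega)
open scoped MatrixGroups

/-- The index of a root of type A₃. -/
def posIdx : ℕ → ℕ → ℕ
  | 0, 1 => 40
  | 1, 2 => 59
  | 2, 3 => 58
  | 0, 2 => 62
  | 1, 3 => 70
  | _, _ => 71

/-- The index of a matrix unit. -/
def eIdx (i j : Fin 4) : ℕ := if i < j then posIdx i.val j.val else 71 - posIdx j.val i.val

/-- The root of a matrix unit. -/
def eRoot (i j : Fin 4) : ℕ := rt (eIdx i j)

/-- The checks on the twelve roots. -/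
def a3OK : Bool :=
  (List.finRange 4).all fun i => (List.finRange 4).all fun j => decide (i = j) ||
    (Nat.blt (eRoot i j) 72 && Nat.blt (eIdx i j) 72 && Nat.beq (rho (eIdx i j)) (eIdx i j) &&
      (leviR.all fun s => !(Nat.beq s (eRoot i j)) && !(Nat.beq s (chevE6.neg (eRoot i j))) &&
        (chevE6.commTerms (eRoot i j) s).isEmpty) &&
      (List.finRange 4).all fun k => (List.finRange 4).all fun l => decide (k = l) ||
        ((decide (j = k) || decide (i = l) || (decide (i = k) && decide (j = l)) ||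
          (!(Nat.beq (eRoot k l) (eRoot i j)) && !(Nat.beq (eRoot k l) (chevE6.neg (eRoot i j))) &&
            (chevE6.commTerms (eRoot i j) (eRoot k l)).isEmpty)) &&
         (!(decide (j = k)) || decide (i = l) ||
          (!(Nat.beq (eRoot i j) (eRoot k l)) && !(Nat.beq (eRoot i j) (chevE6.neg (eRoot k l))) &&
            ((chevE6.commTerms (eRoot k l) (eRoot i j) == [(eRoot i l, 1, 1, 1)]) ||
              (chevE6.commTerms (eRoot k l) (eRoot i j) == [(eRoot i l, -1, 1, 1)]))))))

theorem a3_ok : a3OK = true := by decide +kernel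

/-- The checks at one root. -/
theorem a3_spec {i j : Fin 4} (h : i ≠ j) :
    eRoot i j < 72 ∧ eIdx i j < 72 ∧ rho (eIdx i j) = eIdx i j ∧
    (∀ s ∈ leviR, s ≠ eRoot i j ∧ s ≠ chevE6.neg (eRoot i j) ∧
      chevE6.commTerms (eRoot i j) s = []) ∧
    (∀ k l, k ≠ l → j ≠ k → i ≠ l → ¬(i = k ∧ j = l) → eRoot k l ≠ eRoot i j ∧
      eRoot k l ≠ chevE6.neg (eRoot i j) ∧ chevE6.commTerms (eRoot i j) (eRoot k l) = []) ∧
    (∀ l, j ≠ l → i ≠ l → eRoot i j ≠ eRoot j l ∧ eRoot i j ≠ chevE6.neg (eRoot j l) ∧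
      ∃ z : ℤ, (z = 1 ∨ z = -1) ∧
        chevE6.commTerms (eRoot j l) (eRoot i j) = [(eRoot i l, z, 1, 1)]) := by
  have h0 := List.all_eq_true.1 (List.all_eq_true.1 a3_ok i (List.mem_finRange i)) j
    (List.mem_finRange j)
  simp only [h, decide_false, Bool.false_or, Bool.and_eq_true, Nat.blt_eq] at h0
  obtain ⟨⟨⟨⟨h1, h2⟩, h3⟩, h4⟩, h5⟩ := h0
  refine ⟨h1, h2, Nat.eq_of_beq_eq_true h3, fun s hs => ?_, fun k l hkl hjk hil hne => ?_,
    fun l hjl hil => ?_⟩
  · have e := List.all_eq_true.1 h4 s hs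
    simp only [Bool.and_eq_true, Bool.not_eq_true', List.isEmpty_iff] at e
    exact ⟨Nat.ne_of_beq_eq_false e.1.1, Nat.ne_of_beq_eq_false e.1.2, e.2⟩
  · have e := List.all_eq_true.1 (List.all_eq_true.1 h5 k (List.mem_finRange k)) l
      (List.mem_finRange l)
    have hd : (decide (i = k) && decide (j = l)) = false := by simpa [not_and] using hne
    simp only [hkl, hjk, hil, hd, decide_false, Bool.false_or, Bool.and_eq_true,
      Bool.not_eq_true', List.isEmpty_iff] at e
    exact ⟨Nat.ne_of_beq_eq_false e.1.1.1, Nat.ne_of_beq_eq_false e.1.1.2, e.1.2⟩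
  · have e := List.all_eq_true.1 (List.all_eq_true.1 h5 j (List.mem_finRange j)) l
      (List.mem_finRange l)
    simp only [hjl, hil, decide_true, decide_false, Bool.not_true, Bool.false_or, Bool.true_or,
      Bool.true_and, Bool.and_eq_true, Bool.or_eq_true, Bool.not_eq_true', beq_iff_eq] at e
    exact ⟨Nat.ne_of_beq_eq_false e.1.1, Nat.ne_of_beq_eq_false e.1.2,
      e.2.elim (fun e => ⟨1, Or.inl rfl, e⟩) fun e => ⟨-1, Or.inr rfl, e⟩⟩

variable (K : Type*) [Field K]

/-- The image of a transvection. -/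
noncomputable def yEl (i j : Fin 4) (a : ZMod 2) : GL chevE6.Idx K :=
  if a = 0 then 1 else (coreE6 K).xGL (eRoot i j) 1

theorem yEl_eq (i j : Fin 4) (a : ZMod 2) :
    yEl K i j a = 1 ∨ yEl K i j a = (coreE6 K).xGL (eRoot i j) 1 := by
  unfold yEl
  split_ifs
  · exact Or.inl rfl
  · exact Or.inr rfl

/-- The group generated by the twelve root elements. -/
noncomputable def aGroup : Subgroup (GL chevE6.Idx K) :=
  Subgroup.closure {g | ∃ i j : Fin 4, i ≠ j ∧ g = (coreE6 K).xGL (eRoot i j) 1}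

theorem x_mem_aGroup {i j : Fin 4} (h : i ≠ j) : (coreE6 K).xGL (eRoot i j) 1 ∈ aGroup K :=
  Subgroup.subset_closure ⟨i, j, h, rfl⟩

theorem aGroup_le_twisted [Fintype K] [CharP K 2] (hn : Fintype.card K = (2 ^ 1) * (2 ^ 1)) :
    aGroup K ≤ twistedE6 K (2 ^ 1) := by
  refine (Subgroup.closure_le _).2 ?_
  rintro _ ⟨i, j, hij, rfl⟩
  obtain ⟨w, hw⟩ := exists_omega (K := K) (by rw [hn]; norm_num)
  obtain ⟨-, h2, h3, -⟩ := a3_spec hij
  show (coreE6 K).xGL (rt (eIdx i j)) 1 ∈ twistedE6 K (2 ^ 1)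
  rw [← gGL_fixed w h3]
  exact gGL_mem hw hn _ h2

variable [CharP K 2]

theorem aGroup_commute (w : K) {g : GL chevE6.Idx K} (hg : g ∈ aGroup K) :
    Commute (xEl w) g := by
  have hle : aGroup K ≤ Subgroup.centralizer {xEl w} := by
    refine (Subgroup.closure_le _).2 ?_
    rintro _ ⟨i, j, hij, rfl⟩
    rw [SetLike.mem_coe, Subgroup.mem_centralizer_singleton_iff]
    obtain ⟨hlt, -, -, hc, -⟩ := a3_spec hij
    have h : ∀ s ∈ leviR, ∀ a : K,
        Commute ((coreE6 K).xGL s a) ((coreE6 K).xGL (eRoot i j) 1) := by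
      intro s hs a
      have hsn : ∀ s ∈ leviR, s < chevE6.nroots := by decide
      obtain ⟨n1, n2, he⟩ := hc s hs
      have h' := (coreE6 K).xGL_comm (r := eRoot i j) (s := s) hlt (hsn s hs) n1 n2 1 a
      rw [ChevalleyDatum.commWord, he, List.map_nil, (coreE6 K).wordGL_nil, mul_one] at h'
      exact h'
    exact (((h 42 (by simp [leviR]) w).mul_left (h 37 (by simp [leviR]) _)).mul_left
      ((h 29 (by simp [leviR]) w).mul_left (h 34 (by simp [leviR]) _))).eq.symm
  exact (Subgroup.mem_centralizer_singleton_iff.1 (hle hg)).symm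

theorem xGL_one_sq' (r : ℕ) : (coreE6 K).xGL r 1 * (coreE6 K).xGL r 1 = 1 := by
  rw [← (coreE6 K).xGL_add, CharTwo.add_self_eq_zero, (coreE6 K).xGL_zero]

theorem yEl_add {i j : Fin 4} (a b : ZMod 2) :
    yEl K i j (a + b) = yEl K i j a * yEl K i j b := by
  have key : ∀ a b : ZMod 2, (a = 0 ∧ a + b = b) ∨ (b = 0 ∧ a + b = a) ∨
      (a ≠ 0 ∧ b ≠ 0 ∧ a + b = 0) := by decide
  rcases key a b with ⟨h1, h2⟩ | ⟨h1, h2⟩ | ⟨h1, h2, h3⟩
  · rw [h2, show yEl K i j a = 1 from if_pos h1, one_mul]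
  · rw [h2, show yEl K i j b = 1 from if_pos h1, mul_one]
  · rw [yEl, yEl, yEl, if_neg h1, if_neg h2, if_pos h3, xGL_one_sq']

theorem yEl_commute {i j k l : Fin 4} (hij : i ≠ j) (hkl : k ≠ l) (hjk : j ≠ k) (hil : i ≠ l)
    (a b : ZMod 2) : Commute (yEl K i j a) (yEl K k l b) := by
  rcases yEl_eq K i j a with e | e <;> rw [e]
  · exact Commute.one_left _
  rcases yEl_eq K k l b with e' | e' <;> rw [e']
  · exact Commute.one_right _
  by_cases hd : i = k ∧ j = l
  · rw [hd.1, hd.2]
  obtain ⟨h1, -, -, -, h5, -⟩ := a3_spec hij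
  obtain ⟨h1', -⟩ := a3_spec hkl
  obtain ⟨n1, n2, he⟩ := h5 k l hkl hjk hil hd
  have h := (coreE6 K).xGL_comm (r := eRoot i j) (s := eRoot k l) h1 h1' n1 n2 (1 : K) 1
  rw [ChevalleyDatum.commWord, he, List.map_nil, (coreE6 K).wordGL_nil, mul_one] at h
  exact h.symm

theorem yEl_form {i j k : Fin 4} (hij : i ≠ j) (hjk : j ≠ k) (hik : i ≠ k) (a b : ZMod 2) :
    yEl K i j a * yEl K j k b = yEl K i k (a * b) * yEl K j k b * yEl K i j a := by
  by_cases ha : a = 0
  · rw [yEl, if_pos ha, one_mul, yEl, yEl, if_pos (show a * b = 0 by rw [ha, zero_mul]), one_mul,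
      mul_one]
  by_cases hb : b = 0
  · simp [yEl, hb]
  have hab : a * b ≠ 0 := mul_ne_zero ha hb
  simp only [yEl, if_neg ha, if_neg hb, if_neg hab]
  obtain ⟨h1, -, -, -, -, h6⟩ := a3_spec hij
  obtain ⟨h1', -⟩ := a3_spec hjk
  obtain ⟨n1, n2, z, hz, he⟩ := h6 k hjk hik
  have h := (coreE6 K).xGL_comm (r := eRoot j k) (s := eRoot i j) h1' h1 n1 n2 (1 : K) 1
  rw [ChevalleyDatum.commWord, he, List.map_cons, List.map_nil, (coreE6 K).wordGL_cons,
    (coreE6 K).wordGL_nil, mul_one] at h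
  dsimp only at h
  rw [cast_pm hz, CharTwo.neg_eq, one_pow, one_mul, one_mul] at h
  have c1 : Commute ((coreE6 K).xGL (eRoot i k) 1) ((coreE6 K).xGL (eRoot i j) 1) := by
    have := yEl_commute K hik hij hik.symm hij (1 : ZMod 2) 1
    simpa [yEl] using this
  have c2 : Commute ((coreE6 K).xGL (eRoot i k) 1) ((coreE6 K).xGL (eRoot j k) 1) := by
    have := yEl_commute K hik hjk hjk.symm hik (1 : ZMod 2) 1
    simpa [yEl] using this
  rw [h, mul_assoc ((coreE6 K).xGL (eRoot j k) 1), ← c1.eq, ← mul_assoc, ← c2.eq]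

/-- The pair of a transvection and its image. -/
noncomputable def pairEl (i j : Fin 4) (a : ZMod 2) :
    Matrix.SpecialLinearGroup (Fin 4) (ZMod 2) × GL chevE6.Idx K :=
  if h : i ≠ j then (Matrix.SpecialLinearGroup.transvection h a, yEl K i j a) else 1

/-- The graph of the map. -/
noncomputable def graphGrp : Subgroup (Matrix.SpecialLinearGroup (Fin 4) (ZMod 2) × GL chevE6.Idx K) :=
  Subgroup.closure {g | ∃ i j a, i ≠ j ∧ g = pairEl K i j a}

/-- The generators of the graph. -/
noncomputable def graphX (i j : Fin 4) (a : ZMod 2) : ↥(graphGrp K) :=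
  if h : i ≠ j then ⟨pairEl K i j a, Subgroup.subset_closure ⟨i, j, a, h, rfl⟩⟩ else 1

theorem coe_graphX {i j : Fin 4} (h : i ≠ j) (a : ZMod 2) :
    (graphX K i j a).val = (Matrix.SpecialLinearGroup.transvection h a, yEl K i j a) := by
  simp only [graphX, dif_pos h, pairEl]

theorem graph_rels : SLPresent.Rels (graphX K) := by
  refine ⟨by decide, fun {i j} h a b => Subtype.ext ?_, fun {i j k} hij hjk hik a b => Subtype.ext ?_,
    fun {i j k l} hij hkl hjk hil a b => Subtype.ext ?_⟩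
  · rw [Subgroup.coe_mul, coe_graphX K h, coe_graphX K h, coe_graphX K h, Prod.mk_mul_mk,
      Matrix.SpecialLinearGroup.transvection_add, yEl_add]
  · rw [Subgroup.coe_mul, Subgroup.coe_mul, Subgroup.coe_mul, coe_graphX K hij, coe_graphX K hjk,
      coe_graphX K hik, Prod.mk_mul_mk, Prod.mk_mul_mk, Prod.mk_mul_mk,
      SLPresent.tv_form hij hjk hik, yEl_form K hij hjk hik]
  · rw [Subgroup.coe_mul, Subgroup.coe_mul, coe_graphX K hij, coe_graphX K hkl, Prod.mk_mul_mk,
      Prod.mk_mul_mk, (SLPresent.tv_commute hij hkl hjk hil a b).eq,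
      (yEl_commute K hij hkl hjk hil a b).eq]

theorem graph_full : SLPresent.Full (graphX K) (1 : ZMod 2) := by
  refine { toRels := graph_rels K, gen := ?_, ω_ne := one_ne_zero, generate := ?_, hh := ?_ }
  · refine top_le_iff.1 ((Subgroup.closure_closure_coe_preimage
      (k := {g | ∃ i j a, i ≠ j ∧ g = pairEl K i j a})).symm.le.trans (Subgroup.closure_mono ?_))
    rintro g ⟨i, j, a, hij, hg⟩
    exact ⟨i, j, a, hij, Subtype.ext (hg.trans (by rw [coe_graphX K hij, pairEl, dif_pos hij]))⟩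
  · intro t ht
    refine ⟨0, ?_⟩
    revert ht
    revert t
    decide
  · intro i j k hij hjk hik
    rw [(graph_rels K).h_one hij]
    exact Commute.one_left _

/-- The projection of the graph. -/
noncomputable def graphFst : ↥(graphGrp K) →* Matrix.SpecialLinearGroup (Fin 4) (ZMod 2) :=
  (MonoidHom.fst _ _).comp (graphGrp K).subtype

theorem graphFst_bijective : Function.Bijective (graphFst K) := by
  refine ⟨(graph_full K).injective (graphFst K) fun i j h a => ?_, fun A => ?_⟩
  · show (graphX K i j a).val.1 = _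
    rw [coe_graphX K h]
  · refine Matrix.SpecialLinearGroup.diagonal_transvection_induction'
      (fun A => ∃ g, graphFst K g = A) A ?_ ?_ ?_
    · intro i j hij c hc
      have hc1 : c = 1 := by revert hc; revert c; decide
      subst hc1
      refine ⟨1, ?_⟩
      rw [map_one]
      ext a b
      simp [Matrix.SpecialLinearGroup.diag2n_coe, Matrix.diagonal_apply, Matrix.one_apply]
    · intro i j hij a
      refine ⟨graphX K i j a, ?_⟩
      show (graphX K i j a).val.1 = _
      rw [coe_graphX K hij]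
    · rintro _ _ ⟨g, rfl⟩ ⟨h, rfl⟩
      exact ⟨g * h, map_mul _ _ _⟩

/-- The map of `SL₄(2)`. -/
noncomputable def slHom : Matrix.SpecialLinearGroup (Fin 4) (ZMod 2) →* GL chevE6.Idx K :=
  ((MonoidHom.snd _ _).comp (graphGrp K).subtype).comp
    (MulEquiv.ofBijective (graphFst K) (graphFst_bijective K)).symm.toMonoidHom

theorem slHom_tv {i j : Fin 4} (h : i ≠ j) (a : ZMod 2) :
    slHom K (Matrix.SpecialLinearGroup.transvection h a) = yEl K i j a := by
  have e : (MulEquiv.ofBijective (graphFst K) (graphFst_bijective K)).symm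
      (Matrix.SpecialLinearGroup.transvection h a) = graphX K i j a := by
    rw [MulEquiv.symm_apply_eq]
    show _ = (graphX K i j a).val.1
    rw [coe_graphX K h]
  show ((MulEquiv.ofBijective (graphFst K) (graphFst_bijective K)).symm
      (Matrix.SpecialLinearGroup.transvection h a)).val.2 = _
  rw [e, coe_graphX K h]

theorem slHom_range : (slHom K).range = aGroup K := by
  refine le_antisymm ?_ ((Subgroup.closure_le _).2 ?_)
  · rintro _ ⟨A, rfl⟩
    have hmem : ∀ g : ↥(graphGrp K), g.val.2 ∈ aGroup K := by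
      rintro ⟨g, hg⟩
      refine Subgroup.closure_induction (p := fun g _ => g.2 ∈ aGroup K) ?_ ?_ ?_ ?_ hg
      · rintro x ⟨i, j, a, hij, rfl⟩
        rw [pairEl, dif_pos hij]
        rcases yEl_eq K i j a with e | e <;> rw [e]
        · exact one_mem _
        · exact x_mem_aGroup K hij
      · exact one_mem _
      · intro x y _ _ hx hy
        exact mul_mem hx hy
      · intro x _ hx
        exact inv_mem hx
    exact hmem _
  · rintro _ ⟨i, j, hij, rfl⟩
    exact ⟨Matrix.SpecialLinearGroup.transvection hij 1, by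
      rw [slHom_tv, yEl, if_neg one_ne_zero]⟩

/-- `SL₄(2)` is `Alt 8`. -/
theorem exists_slEquivAlt : Nonempty
    (↥(alternatingGroup (Fin 8)) ≃* Matrix.SpecialLinearGroup (Fin 4) (ZMod 2)) := by
  have hbij : Function.Bijective
      (Matrix.SpecialLinearGroup.toGL : Matrix.SpecialLinearGroup (Fin 4) (ZMod 2) → GL (Fin 4) (ZMod 2)) :=
    ⟨Matrix.SpecialLinearGroup.toGL_injective, fun g => ⟨⟨g.val, KnownSimple.GLFourTwo.det_GL_two g⟩,
      Units.ext (Matrix.SpecialLinearGroup.coe_GL_coe_matrix _)⟩⟩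
  exact ⟨((MulEquiv.ofBijective Matrix.SpecialLinearGroup.toGL hbij).trans
    KnownSimple.GLFourTwo.glFourTwoEquivAlt).symm⟩

/-- An injective map of `Alt 8` onto the group of the twelve root elements. -/
theorem exists_altHom : ∃ f : ↥(alternatingGroup (Fin 8)) →* GL chevE6.Idx K,
    Function.Injective f ∧ f.range = aGroup K := by
  obtain ⟨e⟩ := exists_slEquivAlt
  refine ⟨(slHom K).comp e.toMonoidHom, ?_, ?_⟩
  · have hs : IsSimpleGroup ↥(alternatingGroup (Fin 8)) :=
      alternatingGroup.isSimpleGroup (by rw [Nat.card_eq_fintype_card, Fintype.card_fin]; norm_num)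
    rw [← MonoidHom.ker_eq_bot_iff]
    rcases hs.eq_bot_or_eq_top_of_normal _ (MonoidHom.normal_ker ((slHom K).comp e.toMonoidHom)) with h | h
    · exact h
    exfalso
    have hmem : e.symm (Matrix.SpecialLinearGroup.transvection (show (0 : Fin 4) ≠ 1 by decide) (1 : ZMod 2)) ∈
        ((slHom K).comp e.toMonoidHom).ker := h ▸ Subgroup.mem_top _
    rw [MonoidHom.mem_ker, MonoidHom.comp_apply] at hmem
    have hmem' : slHom K (e (e.symm (Matrix.SpecialLinearGroup.transvection
        (show (0 : Fin 4) ≠ 1 by decide) (1 : ZMod 2)))) = 1 := hmem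
    rw [MulEquiv.apply_symm_apply, slHom_tv, yEl, if_neg one_ne_zero] at hmem'
    exact one_ne_zero (((coreE6 K).xGL_eq_one_iff (a3_spec (show (0 : Fin 4) ≠ 1 by decide)).1).1 hmem')
  · rw [MonoidHom.range_comp, MulEquiv.toMonoidHom_eq_coe, MonoidHom.range_eq_top.2 e.surjective,
      ← MonoidHom.range_eq_map, slHom_range]

end CfsgLib.TwistFive
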