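import Cfsg.Agent.Lib.TwistFive.Roots
import Cfsg.Agent.Lib.TwistedStr.WeylE6
import Cfsg.Agent.Lib.Schur.E6Two.Tables

/-!
The certificate: in a subgroup of order 25 all elements of order five are conjugate to one of them.
-/

set_option autoImplicit false
set_option maxRecDepth 100000
set_option exponentiation.threshold 10000

namespace CfsgLib.TwistFive

open Cfsg.Lie CfsgLib.ChevStr CfsgLib.Twisted

/-- The roots of a word of indices. -/
def rootsW (w : List ℕ) : List ℕ := w.map Schur.E6Two.rt

/-- The roots of the first generator. -/
def bR : List ℕ := rootsW bW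

/-- The roots of the second generator. -/
def cR : List ℕ := rootsW cgW ++ bR ++ (rootsW cgW).reverse

/-- The roots of the representative of a twisted reflection. -/
def nW (k : Fin 4) : List ℕ :=
  (e6TwistWord k).flatMap fun i => [chevE6.simple i.val, chevE6.neg (chevE6.simple i.val),
    chevE6.simple i.val]

/-- The monomial factor of a kind. -/
def kindW (t : ℕ) : List ℕ := if t = 0 then [] else if t = 1 then nW 0 else nW 0 ++ nW 1

/-- Repetition of a word. -/
def rep (w : List ℕ) : ℕ → List ℕ
  | 0 => []
  | n + 1 => w ++ rep w n

/-- The left side of a certificate. -/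
def lhsW (e : (ℕ × ℕ) × ℕ × List ℕ) : List ℕ :=
  kindW e.2.1 ++ (rep bR e.1.1 ++ rep cR e.1.2)

/-- The right side of a certificate. -/
def rhsW (e : (ℕ × ℕ) × ℕ × List ℕ) : List ℕ :=
  rootsW e.2.2 ++ bR ++ (rootsW e.2.2).reverse ++ kindW e.2.1

/-- The check of the certificate of one conjugacy. -/
noncomputable def certOK (e : (ℕ × ℕ) × ℕ × List ℕ) : Bool :=
  usedAll (lhsW e) && usedAll (rhsW e) && Nat.beq (wordC (lhsW e)) (wordC (rhsW e))

/-- The exponents are covered. -/
def coverOK : Bool :=
  (List.range 5).all fun i => (List.range 5).all fun j =>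
    (i == 0 && j == 0) || certs.any fun e => e.1 == (i, j)

theorem cover_ok : coverOK = true := by decide +kernel

/-- The long indices used in the words. -/
def longOK : Bool :=
  (bW ++ cgW ++ certs.flatMap fun e => e.2.2).all fun i =>
    Nat.blt i 72 && Nat.beq (Schur.E6Two.rho i) i

theorem long_ok : longOK = true := by decide +kernel

theorem cert_ok0 : (certs.take 8).all certOK = true := by decide +kernel

theorem cert_ok1 : ((certs.drop 8).take 8).all certOK = true := by decide +kernel

theorem cert_ok2 : (certs.drop 16).all certOK = true := by decide +kernel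

theorem cert_ok : ∀ e ∈ certs, certOK e = true := by
  intro e he
  rw [← List.take_append_drop 8 certs, List.mem_append] at he
  rcases he with h | h
  · exact List.all_eq_true.1 cert_ok0 e h
  · rw [← List.take_append_drop 8 (certs.drop 8), List.mem_append, List.drop_drop] at h
    rcases h with h | h
    · exact List.all_eq_true.1 cert_ok1 e h
    · exact List.all_eq_true.1 cert_ok2 e h

/-- The relations of the subgroup of order 25. -/
noncomputable def subOK : Bool :=
  usedAll bR && usedAll cR && Nat.beq (wordC (rep bR 5)) oneC && Nat.beq (wordC (rep cR 5)) oneC &&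
    Nat.beq (wordC (bR ++ cR)) (wordC (cR ++ bR)) &&
    !(Nat.beq (wordC bR % 2 ^ 6084) (oneC % 2 ^ 6084)) &&
    (List.range 5).all fun i => !(Nat.beq (wordC (rep bR i) % 2 ^ 6084) (wordC cR % 2 ^ 6084))

theorem sub_ok : subOK = true := by decide +kernel

end CfsgLib.TwistFive
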