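import Mathlib.LinearAlgebra.Matrix.GeneralLinearGroup.Defs
import Mathlib.Data.Nat.Bitwise
import Mathlib.Data.ZMod.Basic
import Mathlib.Algebra.BigOperators.Intervals
import Mathlib.Data.Fintype.BigOperators

/-!
Matrices of degree seventy-eight over the field with two elements, each coded by one number: the entry
in row `i` and column `j` is the bit `78 * i + j`.
-/

set_option autoImplicit false

namespace CfsgLib.TwistFive

/-- The first column, as a mask. -/
def colMask : ℕ := 0x40000000000000000001000000000000000000040000000000000000001000000000000000000040000000000000000001000000000000000000040000000000000000001000000000000000000040000000000000000001000000000000000000040000000000000000001000000000000000000040000000000000000001000000000000000000040000000000000000001000000000000000000040000000000000000001000000000000000000040000000000000000001000000000000000000040000000000000000001000000000000000000040000000000000000001000000000000000000040000000000000000001000000000000000000040000000000000000001000000000000000000040000000000000000001000000000000000000040000000000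000000001000000000000000000040000000000000000001000000000000000000040000000000000000001000000000000000000040000000000000000001000000000000000000040000000000000000001000000000000000000040000000000000000001000000000000000000040000000000000000001000000000000000000040000000000000000001000000000000000000040000000000000000001000000000000000000040000000000000000001000000000000000000040000000000000000001000000000000000000040000000000000000001000000000000000000040000000000000000001000000000000000000040000000000000000001000000000000000000040000000000000000001000000000000000000040000000000000000001000000000000000000040000000000000000001000000000000000000040000000000000000001000000000000000000040000000000000000001000000000000000000040000000000000000001000000000000000000040000000000000000001000000000000000000040000000000000000001000000000000000000040000000000000000001000000000000000000040000000000000000001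

/-- The first `k` summands of a product, by the recursor so that the kernel is quick. -/
noncomputable def mmAux (A B : ℕ) (k : ℕ) : ℕ :=
  Nat.rec (motive := fun _ => ℕ) 0 (fun k ih => Nat.xor ih (Nat.mul
    (Nat.land (Nat.shiftRight A k) colMask)
    (Nat.land (Nat.shiftRight B (Nat.mul 78 k)) 0x3fffffffffffffffffff))) k

theorem mmAux_zero (A B : ℕ) : mmAux A B 0 = 0 := rfl

theorem mmAux_succ (A B k : ℕ) : mmAux A B (k + 1) =
    mmAux A B k ^^^ (((A >>> k) &&& colMask) * ((B >>> (78 * k)) % 2 ^ 78)) := by
  rw [← Nat.and_two_pow_sub_one_eq_mod]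
  rfl

/-- The product of two coded matrices. -/
noncomputable def mm (A B : ℕ) : ℕ := mmAux A B 78

/-- The coded identity. -/
def oneC : ℕ := (List.range 78).foldl (fun s i => s + 2 ^ (79 * i)) 0

/-- The entry of a bit. -/
def bitv (b : Bool) : ZMod 2 := if b then 1 else 0

theorem bitv_xor (a b : Bool) : bitv (a ^^ b) = bitv a + bitv b := by
  cases a <;> cases b <;> decide

theorem bitv_and (a b : Bool) : bitv (a && b) = bitv a * bitv b := by
  cases a <;> cases b <;> decide

theorem bitv_inj {a b : Bool} (h : bitv a = bitv b) : a = b := by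
  revert h; cases a <;> cases b <;> decide

theorem bitv_def (z : ZMod 2) : bitv (z == 1) = z := by revert z; decide

/-- The bit of an entry. -/
def ent (A i j : ℕ) : ZMod 2 := bitv (A.testBit (78 * i + j))

theorem testBit_spread {j : ℕ} (hj : j < 78) {R : ℕ} (hR : R < 2 ^ 78) :
    ∀ (i X : ℕ), (∀ m, X.testBit m = true → 78 ∣ m) →
      (X * R).testBit (78 * i + j) = (X.testBit (78 * i) && R.testBit j) := by
  intro i
  induction i with
  | zero =>
    intro X hX
    have hX0 : X % 2 ^ 78 = if X.testBit 0 then 1 else 0 := by
      refine Nat.eq_of_testBit_eq fun m => ?_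
      rw [Nat.testBit_mod_two_pow]
      rcases m with - | m
      · cases X.testBit 0 <;> simp
      · by_cases hm : m + 1 < 78
        · have : X.testBit (m + 1) = false := by
            by_contra h
            have := Nat.le_of_dvd (Nat.succ_pos m) (hX _ (by simpa using h))
            omega
          cases X.testBit 0 <;> simp [this, Nat.testBit_succ]
        · cases X.testBit 0 <;> simp [hm, Nat.testBit_succ]
    have h : (X * R).testBit j = ((X * R) % 2 ^ 78).testBit j := by
      rw [Nat.testBit_mod_two_pow]; simp [hj]
    rw [Nat.mul_zero, Nat.zero_add, h, Nat.mul_mod, Nat.mod_eq_of_lt hR, hX0]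
    cases X.testBit 0
    · simp
    · rw [if_pos rfl, Nat.one_mul, Nat.mod_eq_of_lt hR, Bool.true_and]
  | succ i ih =>
    intro X hX
    have hX' : ∀ m, (X / 2 ^ 78).testBit m = true → 78 ∣ m := fun m hm => by
      rw [Nat.testBit_div_two_pow] at hm
      have := hX _ hm
      omega
    have hlt : (X % 2 ^ 78) * R < 2 ^ 78 := by
      have hle : X % 2 ^ 78 ≤ 1 := by
        by_contra h
        obtain ⟨m, hm, hm'⟩ : ∃ m, 0 < m ∧ (X % 2 ^ 78).testBit m = true := by
          by_contra hne
          push Not at hne
          apply h
          have he : X % 2 ^ 78 = (X % 2 ^ 78) % 2 ^ 1 := Nat.eq_of_testBit_eq fun m => by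
            rw [Nat.testBit_mod_two_pow (X % 2 ^ 78) 1]
            rcases Nat.eq_zero_or_pos m with rfl | hm
            · rw [decide_eq_true Nat.one_pos, Bool.true_and]
            · rw [Bool.eq_false_iff.2 (hne m hm), Bool.and_false]
          omega
        rw [Nat.testBit_mod_two_pow] at hm'
        simp only [Bool.and_eq_true, decide_eq_true_eq] at hm'
        have := Nat.le_of_dvd hm (hX _ hm'.2)
        omega
      calc _ ≤ 1 * R := Nat.mul_le_mul_right R hle
        _ < _ := by rw [Nat.one_mul]; exact hR
    have hdiv : X * R / 2 ^ 78 = X / 2 ^ 78 * R := by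
      conv_lhs => rw [← Nat.div_add_mod X (2 ^ 78), Nat.add_mul, Nat.mul_assoc]
      rw [Nat.mul_add_div (Nat.two_pow_pos 78), Nat.div_eq_of_lt hlt, Nat.add_zero]
    rw [show 78 * (i + 1) + j = 78 * i + j + 78 by omega, ← Nat.testBit_div_two_pow, hdiv,
      ih _ hX', Nat.testBit_div_two_pow, show 78 * i + 78 = 78 * (i + 1) by omega]

/-- The bits of the mask. -/
def maskOK : Bool :=
  colMask < 2 ^ 6084 && (List.range 6084).all fun m => colMask.testBit m == (m % 78 == 0)

theorem mask_ok : maskOK = true := by decide +kernel

theorem colMask_bit {i : ℕ} (hi : i < 78) : colMask.testBit (78 * i) = true := by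
  have h := mask_ok
  simp only [maskOK, Bool.and_eq_true, List.all_eq_true, List.mem_range, beq_iff_eq] at h
  rw [h.2 _ (by omega)]
  simp

theorem colMask_dvd {m : ℕ} (hm : colMask.testBit m = true) : 78 ∣ m := by
  have h := mask_ok
  simp only [maskOK, Bool.and_eq_true, List.all_eq_true, List.mem_range, beq_iff_eq,
    decide_eq_true_eq] at h
  by_cases hlt : m < 6084
  · rw [h.2 m hlt, beq_iff_eq] at hm
    omega
  · rw [Nat.testBit_lt_two_pow (h.1.trans_le (Nat.pow_le_pow_right (by norm_num) (not_lt.1 hlt)))]
      at hm
    exact absurd hm (by decide)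

theorem ent_mmAux (A B : ℕ) {i j : ℕ} (hi : i < 78) (hj : j < 78) :
    ∀ n, ent (mmAux A B n) i j = ∑ k ∈ Finset.range n, ent A i k * ent B k j
  | 0 => by simp [mmAux_zero, ent, bitv]
  | n + 1 => by
    rw [Finset.sum_range_succ, ← ent_mmAux A B hi hj n]
    simp only [ent, mmAux_succ, Nat.testBit_xor, bitv_xor]
    rw [testBit_spread hj (Nat.mod_lt _ (Nat.two_pow_pos 78)) i _ fun m hm => colMask_dvd (by
      simp only [Nat.testBit_and, Bool.and_eq_true] at hm; exact hm.2)]
    rw [Nat.testBit_mod_two_pow, decide_eq_true hj]
    simp [Nat.testBit_and, colMask_bit hi, Nat.testBit_shiftRight, bitv_and, Nat.add_comm n]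

theorem ent_mm (A B : ℕ) {i j : ℕ} (hi : i < 78) (hj : j < 78) :
    ent (mm A B) i j = ∑ k ∈ Finset.range 78, ent A i k * ent B k j :=
  ent_mmAux A B hi hj 78

/-- The bits of the identity. -/
def oneOK : Bool :=
  (List.range 78).all fun i => (List.range 78).all fun j => oneC.testBit (78 * i + j) == (i == j)

theorem one_ok : oneOK = true := by decide +kernel

theorem ent_oneC {i j : ℕ} (hi : i < 78) (hj : j < 78) :
    ent oneC i j = if i = j then 1 else 0 := by
  have h := one_ok
  simp only [oneOK, List.all_eq_true, List.mem_range, beq_iff_eq] at h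
  rw [ent, h i hi j hj]
  by_cases e : i = j <;> simp [e, bitv]

/-- The number of a coordinate. -/
def coord : Fin 6 ⊕ Fin 72 → ℕ := Sum.elim Fin.val fun r => 6 + r.val

theorem coord_lt (a : Fin 6 ⊕ Fin 72) : coord a < 78 := by
  cases a <;> simp [coord] <;> omega

theorem coord_inj : Function.Injective coord := by
  rintro (a | a) (b | b) h <;> simp [coord] at h ⊢ <;> omega

theorem coord_surj {k : ℕ} (hk : k < 78) : ∃ a, coord a = k := by
  by_cases h : k < 6
  · exact ⟨Sum.inl ⟨k, h⟩, rfl⟩
  · exact ⟨Sum.inr ⟨k - 6, by omega⟩, by simp [coord]; omega⟩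

theorem sum_coord {M : Type*} [AddCommMonoid M] (f : ℕ → M) :
    ∑ a : Fin 6 ⊕ Fin 72, f (coord a) = ∑ k ∈ Finset.range 78, f k := by
  rw [Fintype.sum_sum_type, show (78 : ℕ) = 6 + 72 from rfl, Finset.sum_range_add]
  exact congrArg₂ (· + ·) (Fin.sum_univ_eq_sum_range f 6)
    (Fin.sum_univ_eq_sum_range (fun k => f (6 + k)) 72)

/-- The group of the matrices. -/
abbrev Mat78 : Type := GL (Fin 6 ⊕ Fin 72) (ZMod 2)

/-- A matrix and its code. -/
def Enc (g : Mat78) (A : ℕ) : Prop :=
  ∀ a b, (g : Matrix (Fin 6 ⊕ Fin 72) (Fin 6 ⊕ Fin 72) (ZMod 2)) a b = ent A (coord a) (coord b)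

theorem enc_one : Enc 1 oneC := fun a b => by
  rw [ent_oneC (coord_lt a) (coord_lt b), Units.val_one, Matrix.one_apply]
  simp [coord_inj.eq_iff]

theorem Enc.mul {g h : Mat78} {A B : ℕ} (ha : Enc g A) (hb : Enc h B) : Enc (g * h) (mm A B) :=
  fun a b => by
    rw [Units.val_mul, Matrix.mul_apply, ent_mm A B (coord_lt a) (coord_lt b), ← sum_coord]
    exact Finset.sum_congr rfl fun c _ => by rw [ha a c, hb c b]

theorem Enc.ext {g h : Mat78} {A B : ℕ} (ha : Enc g A) (hb : Enc h B) (e : A = B) : g = h :=
  Units.ext (Matrix.ext fun a b => by rw [ha a b, hb a b, e])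

theorem Enc.ne_one {g : Mat78} {A : ℕ} (ha : Enc g A) (h : A % 2 ^ 6084 ≠ oneC) : g ≠ 1 := by
  rintro rfl
  apply h
  have hlt : oneC < 2 ^ 6084 := by decide +kernel
  refine Nat.eq_of_testBit_eq fun m => ?_
  rw [Nat.testBit_mod_two_pow]
  by_cases hm : m < 6084
  · obtain ⟨a, e1⟩ := coord_surj (show m / 78 < 78 by omega)
    obtain ⟨b, e2⟩ := coord_surj (show m % 78 < 78 by omega)
    have e := (ha a b).symm.trans (enc_one a b)
    rw [e1, e2, ent, ent, show 78 * (m / 78) + m % 78 = m by omega] at e
    simp [hm, bitv_inj e]
  · simp [hm, Nat.testBit_lt_two_pow (hlt.trans_le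
      (Nat.pow_le_pow_right (show 0 < 2 by norm_num) (not_lt.1 hm)))]

/-- The product of the codes of a list. -/
noncomputable def prodC : List ℕ → ℕ
  | [] => oneC
  | A :: L => mm A (prodC L)

theorem prodC_nil : prodC [] = oneC := rfl

theorem prodC_cons (A : ℕ) (L : List ℕ) : prodC (A :: L) = mm A (prodC L) := rfl

theorem Enc.mod_eq {g : Mat78} {A B : ℕ} (ha : Enc g A) (hb : Enc g B) :
    A % 2 ^ 6084 = B % 2 ^ 6084 := by
  refine Nat.eq_of_testBit_eq fun m => ?_
  rw [Nat.testBit_mod_two_pow, Nat.testBit_mod_two_pow]
  by_cases hm : m < 6084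
  · obtain ⟨a, e1⟩ := coord_surj (show m / 78 < 78 by omega)
    obtain ⟨b, e2⟩ := coord_surj (show m % 78 < 78 by omega)
    have e := (ha a b).symm.trans (hb a b)
    rw [e1, e2, ent, ent, show 78 * (m / 78) + m % 78 = m by omega] at e
    simp [bitv_inj e]
  · simp [hm]

theorem enc_prod {ι : Type*} {f : ι → Mat78} {c : ι → ℕ} :
    ∀ L : List ι, (∀ i ∈ L, Enc (f i) (c i)) → Enc (L.map f).prod (prodC (L.map c))
  | [], _ => enc_one
  | i :: L, h => by
    rw [List.map_cons, List.prod_cons]
    exact (h i List.mem_cons_self).mul (enc_prod L fun j hj => h j (List.mem_cons_of_mem _ hj))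

end CfsgLib.TwistFive
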