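import Cfsg.Agent.Lib.TwistFive.Upper

/-!
The centraliser of an element of order five of ²E₆(2) is the product of the group of order five and
the alternating group of degree eight.
-/

set_option autoImplicit false
set_option maxRecDepth 100000

namespace CfsgLib.TwistFive

open Cfsg.Lie CfsgLib.ChevStr CfsgLib.Twisted
open scoped MatrixGroups

variable {K : Type*} [Field K] [CharP K 2]

/-- The group of the twelve root elements has trivial centre. -/
theorem aGroup_center {g : GL chevE6.Idx K} (hg : g ∈ aGroup K)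
    (h : ∀ b ∈ aGroup K, g * b = b * g) : g = 1 := by
  obtain ⟨f, hf, hr⟩ := exists_altHom K
  rw [← hr] at hg
  obtain ⟨a, rfl⟩ := hg
  have ha : a ∈ Subgroup.center ↥(alternatingGroup (Fin 8)) := by
    refine Subgroup.mem_center_iff.2 fun b => hf ?_
    rw [map_mul, map_mul]
    exact (h (f b) (hr ▸ ⟨b, rfl⟩)).symm
  rw [alternatingGroup.center_eq_bot (by rw [Nat.card_eq_fintype_card, Fintype.card_fin]; norm_num),
    Subgroup.mem_bot] at ha
  rw [ha, map_one]

variable [Fintype K] (hn : Fintype.card K = (2 ^ 1) * (2 ^ 1)) {w : K} (hw : w * w = w + 1)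
include hn hw

theorem xEl_pow_five : xEl w ^ 5 = 1 := by
  have hm := kernel_mem hn hw (pow_mem (xEl_mem hn hw) 5) (pow_mem (xEl_mem_par w) 5)
    ((Commute.refl _).pow_right 5) (powers hw).2.2.2
  exact aGroup_center hm fun b hb => ((aGroup_commute K w hb).pow_left 5).eq

omit [Fintype K] hn in
theorem xEl_ne_one : xEl w ≠ 1 := fun h => by
  have e := Mrep_x_eq hw
  rw [h, Mrep_one, Matrix.one_fin_two] at e
  have e01 := congrFun (congrFun e 0) 1
  simp at e01
  exact (w_ne hw).1 e01.symm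

theorem zpowers_inf_aGroup {g : GL chevE6.Idx K} (h1 : g ∈ Subgroup.zpowers (xEl w))
    (h2 : g ∈ aGroup K) : g = 1 := by
  obtain ⟨k, rfl⟩ := Subgroup.mem_zpowers_iff.1 h1
  exact aGroup_center h2 fun b hb => ((aGroup_commute K w hb).zpow_left k).eq

/-- The centraliser of the element of order five. -/
theorem centralizer_model : ∃ X : ↥(twistedE6 K (2 ^ 1)), orderOf X = 5 ∧
    Nonempty (↥(Subgroup.centralizer ({X} : Set ↥(twistedE6 K (2 ^ 1)))) ≃*
      Multiplicative (ZMod 5) × ↥(alternatingGroup (Fin 8))) := by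
  set X : ↥(twistedE6 K (2 ^ 1)) := ⟨xEl w, xEl_mem hn hw⟩ with hX
  have : Fact (Nat.Prime 5) := ⟨by norm_num⟩
  have ho : orderOf X = 5 := orderOf_eq_prime (Subtype.ext (xEl_pow_five hn hw))
    fun e => xEl_ne_one hw (congrArg Subtype.val e)
  refine ⟨X, ho, ?_⟩
  obtain ⟨f, hf, hr⟩ := exists_altHom K
  have hfa : ∀ a, f a ∈ aGroup K := fun a => hr ▸ ⟨a, rfl⟩
  let fA : ↥(alternatingGroup (Fin 8)) →* ↥(twistedE6 K (2 ^ 1)) :=
    f.codRestrict _ fun a => aGroup_le_twisted K hn (hfa a)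
  let e5 : Multiplicative (ZMod 5) ≃* ↥(Subgroup.zpowers X) :=
    mulEquivOfPrimeCardEq (p := 5) (by simp) (by rw [Nat.card_zpowers, ho])
  let f5 : Multiplicative (ZMod 5) →* ↥(twistedE6 K (2 ^ 1)) :=
    (Subgroup.zpowers X).subtype.comp e5.toMonoidHom
  have hcomm : ∀ u a, Commute (f5 u) (fA a) := by
    intro u a
    obtain ⟨k, hk⟩ := Subgroup.mem_zpowers_iff.1 (e5 u).2
    refine Subtype.ext ?_
    show ((e5 u : ↥(twistedE6 K (2 ^ 1))) : GL chevE6.Idx K) * f a =
      f a * ((e5 u : ↥(twistedE6 K (2 ^ 1))) : GL chevE6.Idx K)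
    rw [← hk, SubgroupClass.coe_zpow]
    exact ((aGroup_commute K w (hfa a)).zpow_left k).eq
  let φ := f5.noncommCoprod fA hcomm
  have hinj : Function.Injective φ := by
    refine (MonoidHom.noncommCoprod_injective _ _ _).2 ⟨?_, fun a b h => hf (congrArg Subtype.val h), ?_⟩
    · exact (Subgroup.subtype_injective _).comp e5.injective
    rw [Subgroup.disjoint_def]
    rintro z ⟨u, rfl⟩ ⟨a, ha⟩
    obtain ⟨k, hk⟩ := Subgroup.mem_zpowers_iff.1 (e5 u).2
    refine Subtype.ext (zpowers_inf_aGroup hn hw ?_ ?_)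
    · refine Subgroup.mem_zpowers_iff.2 ⟨k, ?_⟩
      show xEl w ^ k = ((e5 u : ↥(twistedE6 K (2 ^ 1))) : GL chevE6.Idx K)
      rw [← hk, SubgroupClass.coe_zpow]
    · rw [← ha]
      exact hfa a
  have hrange : φ.range = Subgroup.centralizer ({X} : Set ↥(twistedE6 K (2 ^ 1))) := by
    refine le_antisymm ?_ fun g hg => ?_
    · rintro _ ⟨⟨u, a⟩, rfl⟩
      rw [Subgroup.mem_centralizer_singleton_iff]
      obtain ⟨k, hk⟩ := Subgroup.mem_zpowers_iff.1 (e5 u).2
      have h1 : Commute X (f5 u) := by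
        show Commute X (e5 u : ↥(twistedE6 K (2 ^ 1)))
        rw [← hk]
        exact (Commute.refl X).zpow_right k
      have h2 : Commute X (fA a) := Subtype.ext (aGroup_commute K w (hfa a)).eq
      exact (h1.mul_right h2).eq.symm
    · rw [Subgroup.mem_centralizer_singleton_iff] at hg
      obtain ⟨j, h, hh, e⟩ := centralizer_le hn hw g.2 (congrArg Subtype.val hg)
      rw [← hr] at hh
      obtain ⟨a, rfl⟩ := hh
      have hj : X ^ j ∈ Subgroup.zpowers X := pow_mem (Subgroup.mem_zpowers X) j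
      refine ⟨(e5.symm ⟨X ^ j, hj⟩, a), Subtype.ext ?_⟩
      show ((e5 (e5.symm ⟨X ^ j, hj⟩) : ↥(twistedE6 K (2 ^ 1))) : GL chevE6.Idx K) * f a = _
      rw [MulEquiv.apply_symm_apply, e]
      rfl
  exact ⟨((MonoidHom.ofInjective hinj).trans (MulEquiv.subgroupCongr hrange)).symm⟩

omit [CharP K 2] [Fintype K] hn hw in
/-- Conjugate elements have isomorphic centralisers. -/
theorem centralizer_conj {H : Type*} [Group H] {x y : H} (h : IsConj x y) :
    Nonempty (↥(Subgroup.centralizer ({y} : Set H)) ≃* ↥(Subgroup.centralizer ({x} : Set H))) := by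
  obtain ⟨g, rfl⟩ := isConj_iff.1 h
  have e : (Subgroup.centralizer ({x} : Set H)).map (MulAut.conj g).toMonoidHom =
      Subgroup.centralizer ({g * x * g⁻¹} : Set H) := by
    ext z
    rw [Subgroup.mem_map_equiv, Subgroup.mem_centralizer_singleton_iff,
      Subgroup.mem_centralizer_singleton_iff]
    simp only [MulAut.conj_symm_apply]
    constructor <;> intro h
    · calc z * (g * x * g⁻¹) = g * (g⁻¹ * z * g * x) * g⁻¹ := by group
        _ = g * (x * (g⁻¹ * z * g)) * g⁻¹ := by rw [h]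
        _ = _ := by group
    · calc g⁻¹ * z * g * x = g⁻¹ * (z * (g * x * g⁻¹)) * g := by group
        _ = g⁻¹ * (g * x * g⁻¹ * z) * g := by rw [h]
        _ = _ := by group
  exact ⟨(MulEquiv.subgroupCongr e.symm).trans
    ((Subgroup.centralizer ({x} : Set H)).equivMapOfInjective _
      (MulAut.conj g).injective).symm⟩

end CfsgLib.TwistFive
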