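import Cfsg.Agent.Lib.ChevStr.InstanceTables
import Cfsg.Agent.Lib.Twisted.TypeE6

/-!
The parabolic subgroup of type E₆ belonging to the fundamental roots `p₃` and `p₅`, by supports:
the group of non-negative degrees, the opposite radical, and a representation of degree two.
-/

set_option autoImplicit false
set_option maxRecDepth 100000

namespace CfsgLib.TwistFive

open Cfsg.Lie CfsgLib.ChevStr CfsgLib.Twisted
open scoped MatrixGroups

/-- Weights. -/
abbrev V6 : Type := Fin chevE6.rank → ℤ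

/-- The weight of a root. -/
abbrev al (r : ℕ) : V6 := rootDataE6.α r

/-- The coefficients outside the two fundamental roots. -/
def coeff : Fin 4 → Fin chevE6.rank
  | 0 => ⟨0, by decide⟩
  | 1 => ⟨1, by decide⟩
  | 2 => ⟨3, by decide⟩
  | 3 => ⟨5, by decide⟩

/-- The degree. -/
def outC : V6 →+ ℤ where
  toFun v := ∑ j : Fin 4, v (coeff j)
  map_zero' := by simp
  map_add' v w := by simp [Finset.sum_add_distrib]

theorem outC_apply (v : V6) :
    outC v = v (coeff 0) + v (coeff 1) + v (coeff 2) + v (coeff 3) := by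
  exact Fin.sum_univ_four fun j => v (coeff j)

/-- Weights of non-negative degree in every coefficient. -/
def NN : Set V6 := {v | ∀ j, 0 ≤ v (coeff j)}

/-- Weights of degree at most minus one. -/
def DN : Set V6 := {v | (∀ j, v (coeff j) ≤ 0) ∧ outC v ≤ -1}

/-- Weights of degree at least `m`. -/
def UN (m : ℕ) : Set V6 := {v | (m : ℤ) ≤ outC v ∧ 1 ≤ outC v}

theorem NN_add : ∀ x ∈ NN, ∀ y ∈ NN, x + y ∈ NN := fun _ hx _ hy j => add_nonneg (hx j) (hy j)

theorem DN_add : ∀ x ∈ DN, ∀ y ∈ DN, x + y ∈ DN := fun x hx y hy =>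
  ⟨fun j => add_nonpos (hx.1 j) (hy.1 j), by rw [map_add]; linarith [hx.2, hy.2]⟩

theorem UN_add (m : ℕ) : ∀ x ∈ UN m, ∀ y ∈ UN m, x + y ∈ UN m := fun x hx y hy => by
  simp only [UN, Set.mem_ofPred_eq, map_add] at hx hy ⊢
  exact ⟨by linarith [hx.1, hy.2], by linarith [hx.2, hy.2]⟩

theorem zero_mem_NN : (0 : V6) ∈ NN := fun _ => le_rfl

theorem smul_mem_NN {v : V6} (hv : v ∈ NN) (k : ℕ) : (k : ℤ) • v ∈ NN :=
  fun j => mul_nonneg (Int.natCast_nonneg k) (hv j)

/-- A root of non-negative degree in every coefficient. -/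
def nnR (r : ℕ) : Bool := (List.finRange 4).all fun j => decide (0 ≤ al r (coeff j))

theorem nnR_iff (r : ℕ) : nnR r = true ↔ al r ∈ NN := by
  simp [nnR, NN]

theorem root_facts : ∀ r : Fin chevE6.nroots,
    (chevE6.IsPosRoot r.val → nnR r.val = true ∧ 0 ≤ outC (al r.val)) ∧
    (nnR r.val = true → chevE6.IsPosRoot r.val ∨ r.val = 29 ∨ r.val = 34) ∧
    (chevE6.IsPosRoot r.val → outC (al r.val) = 0 → r.val = 42 ∨ r.val = 37) := by
  simp only [outC_apply]
  decide +kernel

theorem nnR_of_pos {r : ℕ} (h : chevE6.IsPosRoot r) : nnR r = true :=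
  ((root_facts ⟨r, h.1⟩).1 h).1

theorem nnR_levi : ∀ r ∈ [42, 37, 29, 34], nnR r = true := by decide +kernel

/-- The roots of the layers of the radical. -/
def radS (m : ℕ) : Set ℕ := {r | chevE6.IsPosRoot r ∧ (m : ℤ) ≤ outC (al r) ∧ 1 ≤ outC (al r)}

/-- The roots of the opposite radical. -/
def negS : Set ℕ := {r | r < chevE6.nroots ∧ al r ∈ DN}

theorem mem_radS {r : ℕ} (h : chevE6.IsPosRoot r) (h1 : r ≠ 42) (h2 : r ≠ 37) :
    r ∈ radS 1 := by
  obtain ⟨hA, -, hB⟩ := root_facts ⟨r, h.1⟩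
  have h0 := (hA h).2
  have h0 : 0 ≤ outC (al r) := h0
  have hne : outC (al r) ≠ 0 := fun e => (hB h e).elim h1 h2
  exact ⟨h, by push_cast; omega, by omega⟩

variable {K : Type*} [Field K]

theorem x_supp_NN {r : ℕ} (hr : r < chevE6.nroots → al r ∈ NN) (t : K) :
    Supp rootDataE6.wt NN ((coreE6 K).xGL r t : Matrix chevE6.Idx chevE6.Idx K) := by
  intro a b h
  rw [(coreE6 K).coe_xGL] at h
  by_cases hab : a = b
  · subst hab
    rw [sub_self]
    exact zero_mem_NN
  · obtain ⟨hr', k, -, hk⟩ := rootDataE6.x_apply_ne_zero hab h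
    rw [hk]
    exact smul_mem_NN (hr hr') k

/-- The group of non-negative degrees. -/
def par (K : Type*) [Field K] : Subgroup (GL chevE6.Idx K) where
  carrier := {g | Supp rootDataE6.wt NN (g : Matrix chevE6.Idx chevE6.Idx K) ∧
    Supp rootDataE6.wt NN (↑g⁻¹ : Matrix chevE6.Idx chevE6.Idx K)}
  one_mem' := by constructor <;> simpa using supp_one zero_mem_NN
  mul_mem' {g h} hg hh := by
    refine ⟨by rw [Units.val_mul]; exact hg.1.mul hh.1 NN_add, ?_⟩
    rw [_root_.mul_inv_rev, Units.val_mul]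
    exact hh.2.mul hg.2 NN_add
  inv_mem' {g} hg := ⟨hg.2, by simpa using hg.1⟩

theorem xGL_mem_par {r : ℕ} (hr : nnR r = true) (t : K) : (coreE6 K).xGL r t ∈ par K := by
  refine ⟨x_supp_NN (fun _ => (nnR_iff r).1 hr) t, ?_⟩
  rw [(coreE6 K).xGL_inv]
  exact x_supp_NN (fun _ => (nnR_iff r).1 hr) _

theorem torus_mem_par (c : Fin chevE6.rank → Kˣ) : (coreE6 K).R.torus c ∈ par K := by
  have key : ∀ c : Fin chevE6.rank → Kˣ,
      Supp rootDataE6.wt NN ((coreE6 K).R.torus c : Matrix chevE6.Idx chevE6.Idx K) := fun c a b h => by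
    by_cases hab : a = b
    · subst hab
      rw [sub_self]
      exact zero_mem_NN
    · exact absurd ((coreE6 K).apply_torus_of_ne c hab) h
  exact ⟨key c, by rw [← map_inv]; exact key c⁻¹⟩

theorem diag_le_par : chevE6.diagonalSubgroup K ≤ par K := by
  rw [(coreE6 K).diagonalSubgroup_eq]
  rintro _ ⟨c, rfl⟩
  exact torus_mem_par c

theorem posUnipotent_le_par : chevE6.posUnipotent K ≤ par K :=
  (coreE6 K).posUnipotent_le fun _ t hr => xGL_mem_par (nnR_of_pos hr) t

theorem Ucl_radS_le_par (m : ℕ) : (coreE6 K).Ucl (radS m) ≤ par K :=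
  (coreE6 K).Ucl_le fun _ hr t => xGL_mem_par (nnR_of_pos hr.1) t

theorem radU_le_uni (m : ℕ) :
    (coreE6 K).Ucl (radS m) ≤ uniGroup rootDataE6.wt (UN m) (UN_add m) := by
  refine (coreE6 K).Ucl_le fun r hr t => mem_uniGroup_of_supp outC (fun _ h => h.2) ?_
  rw [(coreE6 K).coe_xGL]
  refine rootDataE6.supp_x_sub_one r t fun _ k hk => ?_
  obtain ⟨-, h1, h2⟩ := hr
  have hk' : (1 : ℤ) ≤ k := by omega
  show (m : ℤ) ≤ outC ((k : ℤ) • al r) ∧ 1 ≤ outC ((k : ℤ) • al r)
  rw [map_zsmul, smul_eq_mul]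
  constructor <;> nlinarith

theorem negU_inf_par {g : GL chevE6.Idx K} (h1 : g ∈ (coreE6 K).Ucl negS) (h2 : g ∈ par K) :
    g = 1 := by
  have hS : ∀ x ∈ DN, 1 ≤ (-outC) x := fun x hx => by
    show 1 ≤ -(outC x)
    linarith [hx.2]
  have hu : g ∈ uniGroup rootDataE6.wt DN DN_add := by
    refine (coreE6 K).Ucl_le (fun r hr t => mem_uniGroup_of_supp (-outC) hS ?_) h1
    rw [(coreE6 K).coe_xGL]
    refine rootDataE6.supp_x_sub_one r t fun _ k hk => ⟨fun j => ?_, ?_⟩
    · exact mul_nonpos_of_nonneg_of_nonpos (Int.natCast_nonneg k) (hr.2.1 j)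
    · have := hr.2.2
      have hk' : (1 : ℤ) ≤ k := by omega
      rw [map_zsmul, smul_eq_mul]
      nlinarith
  have hz : (0 : V6) ∉ DN := fun h => by have := h.2; simp at this
  refine Units.ext (Matrix.ext fun a b => ?_)
  rw [Units.val_one]
  by_cases hab : a = b
  · subst hab
    rw [uniGroup_apply_self hz hu, Matrix.one_apply_eq]
  · rw [Matrix.one_apply_ne hab]
    by_contra hne
    have hd : rootDataE6.wt a - rootDataE6.wt b ∈ DN := by
      by_contra hd
      exact hne (uniGroup_apply_eq_zero hu hab hd)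
    have hn := h2.1 a b hne
    have h0 : outC (rootDataE6.wt a - rootDataE6.wt b) = 0 := by
      rw [outC_apply]
      have := fun j => le_antisymm (hd.1 j) (hn j)
      rw [this 0, this 1, this 2, this 3]
      norm_num
    have := hd.2
    omega

/-! ### The representation of degree two -/

/-- The two roots of the representation. -/
def rr : Fin 2 → Fin chevE6.nroots
  | 0 => ⟨56, by decide⟩
  | 1 => ⟨57, by decide⟩

/-- The coordinates of the representation. -/
def rrI (i : Fin 2) : chevE6.Idx := Sum.inr (rr i)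

/-- The representation on two coordinates. -/
def Mrep (g : GL chevE6.Idx K) : Matrix (Fin 2) (Fin 2) K :=
  fun i j => (g : Matrix chevE6.Idx chevE6.Idx K) (rrI i) (rrI j)

theorem rr_coeff : ∀ i : Fin 2, ∀ j, al (rr i).val (coeff j) = al (rr 0).val (coeff j) := by
  decide +kernel

theorem rr_only : ∀ s : Fin chevE6.nroots,
    (∀ j, al s.val (coeff j) = al (rr 0).val (coeff j)) → s = rr 0 ∨ s = rr 1 := by
  decide +kernel

theorem rr_ne : rrI 0 ≠ rrI 1 := by decide

theorem rr_zero : ∃ j, al (rr 0).val (coeff j) ≠ 0 := by decide +kernel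

theorem Mrep_one : Mrep (1 : GL chevE6.Idx K) = 1 := by
  ext i j
  simp only [Mrep, Units.val_one]
  fin_cases i <;> fin_cases j <;> simp [rr_ne, rr_ne.symm]

theorem Mrep_mul {g h : GL chevE6.Idx K} (hg : g ∈ par K) (hh : h ∈ par K) :
    Mrep (g * h) = Mrep g * Mrep h := by
  ext i j
  rw [Mrep, Units.val_mul, Matrix.mul_apply, Matrix.mul_apply, Fin.sum_univ_two]
  rw [Finset.sum_eq_add_of_mem (rrI 0) (rrI 1) (Finset.mem_univ _) (Finset.mem_univ _) rr_ne]
  · rfl
  · intro c _ hc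
    by_contra hne
    obtain ⟨h1, h2⟩ := mul_ne_zero_iff.1 hne
    have e1 := hg.1 _ _ h1
    have e2 := hh.1 _ _ h2
    have heq : ∀ k, rootDataE6.wt c (coeff k) = al (rr 0).val (coeff k) := fun k => by
      have a1 : (0 : ℤ) ≤ (rootDataE6.wt (rrI i) - rootDataE6.wt c) (coeff k) := e1 k
      have a2 : (0 : ℤ) ≤ (rootDataE6.wt c - rootDataE6.wt (rrI j)) (coeff k) := e2 k
      have b1 : rootDataE6.α (rr i).val (coeff k) = rootDataE6.α (rr 0).val (coeff k) := rr_coeff i k
      have b2 : rootDataE6.α (rr j).val (coeff k) = rootDataE6.α (rr 0).val (coeff k) := rr_coeff j k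
      simp only [Pi.sub_apply, rrI, rootDataE6.wt_inr] at a1 a2
      show rootDataE6.wt c (coeff k) = rootDataE6.α (rr 0).val (coeff k)
      omega
    rcases c with c | s
    · obtain ⟨k, hk⟩ := rr_zero
      exact hk (heq k).symm
    · rcases rr_only s heq with rfl | rfl
      · exact hc.1 rfl
      · exact hc.2 rfl

theorem rr_diff : al (rr 1).val - al (rr 0).val = al 42 ∧
    al (rr 0).val - al (rr 1).val = al 29 := by
  constructor <;> exact funext fun j => by revert j; decide +kernel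

theorem al_unit : al 42 ⟨2, by decide⟩ = 1 ∧ al 29 ⟨2, by decide⟩ = -1 := by decide +kernel

theorem eq_of_smul {r s : ℕ} (hr : r < chevE6.nroots) (hs : s < chevE6.nroots) {k : ℕ}
    {j : Fin chevE6.rank} (hj : al s j = 1 ∨ al s j = -1) (h : (k : ℤ) • al r = al s) : r = s := by
  have e := congrFun h j
  simp only [Pi.smul_apply, smul_eq_mul] at e
  have hk : (k : ℤ) = 1 := by
    have hu : IsUnit (k : ℤ) := by
      rcases hj with hj | hj
      · exact IsUnit.of_mul_eq_one _ (e.trans hj)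
      · exact isUnit_of_mul_isUnit_left (y := al r j) (by rw [e, hj]; exact isUnit_one.neg)
    rcases Int.isUnit_iff.1 hu with h' | h'
    · exact h'
    · omega
  rw [hk, one_smul] at h
  exact rootDataE6.α_inj hr hs h

theorem Mrep_x {r : ℕ} (h1 : r ≠ 42) (h2 : r ≠ 29) (t : K) :
    Mrep ((coreE6 K).xGL r t) = 1 := by
  ext i j
  rw [Mrep, (coreE6 K).coe_xGL]
  by_cases hij : i = j
  · subst hij
    rw [rootDataE6.x_apply_self, Matrix.one_apply_eq]
  · rw [Matrix.one_apply_ne hij]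
    by_contra hne
    have hab : rrI i ≠ rrI j := by
      fin_cases i <;> fin_cases j <;> first | exact absurd rfl hij | exact rr_ne | exact rr_ne.symm
    obtain ⟨hr, k, -, hk⟩ := rootDataE6.x_apply_ne_zero hab hne
    simp only [rrI, rootDataE6.wt_inr] at hk
    fin_cases i <;> fin_cases j
    · exact hij rfl
    · exact h2 (eq_of_smul hr (by decide) (Or.inr al_unit.2) (hk.symm.trans rr_diff.2))
    · exact h1 (eq_of_smul hr (by decide) (Or.inl al_unit.1) (hk.symm.trans rr_diff.1))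
    · exact hij rfl

theorem chain_rr : (∃ z : ℤ, (z = 1 ∨ z = -1) ∧ chevE6.chainCoeff 42 56 57 = [(1, z)]) ∧
    (∃ z : ℤ, (z = 1 ∨ z = -1) ∧ chevE6.chainCoeff 29 57 56 = [(1, z)]) ∧
    chevE6.negIdx.getD 42 0 ≠ 56 ∧ chevE6.negIdx.getD 29 0 ≠ 57 ∧
    chevE6.negIdx.getD 42 0 ≠ 57 ∧ chevE6.negIdx.getD 29 0 ≠ 56 ∧
    chevE6.chainCoeff 42 57 56 = [] ∧ chevE6.chainCoeff 29 56 57 = [] := by
  have h : chevE6.chainCoeff 42 56 57 ∈ [[(1, (1 : ℤ))], [(1, -1)]] ∧
      chevE6.chainCoeff 29 57 56 ∈ [[(1, (1 : ℤ))], [(1, -1)]] ∧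
      chevE6.negIdx.getD 42 0 ≠ 56 ∧ chevE6.negIdx.getD 29 0 ≠ 57 ∧
      chevE6.negIdx.getD 42 0 ≠ 57 ∧ chevE6.negIdx.getD 29 0 ≠ 56 ∧
      chevE6.chainCoeff 42 57 56 = [] ∧ chevE6.chainCoeff 29 56 57 = [] := by decide +kernel
  simp only [List.mem_cons, List.not_mem_nil, or_false] at h
  obtain ⟨h1, h2, h3⟩ := h
  exact ⟨h1.elim (fun e => ⟨1, Or.inl rfl, e⟩) fun e => ⟨-1, Or.inr rfl, e⟩,
    h2.elim (fun e => ⟨1, Or.inl rfl, e⟩) fun e => ⟨-1, Or.inr rfl, e⟩, h3⟩

theorem x_inr {r : ℕ} (hr : r < chevE6.nroots) (t : K) (a b : Fin chevE6.nroots)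
    (h1 : b.val ≠ r) (h2 : b.val ≠ chevE6.negIdx.getD r 0) (hab : a ≠ b) :
    chevE6.x K r t (Sum.inr a) (Sum.inr b) =
      ((chevE6.chainCoeff r b.val a.val).map fun km => ((km.2 : ℤ) : K) * t ^ km.1).sum := by
  rw [ChevalleyDatum.x, dif_pos hr, ChevalleyDatum.xMat, Matrix.of_apply]
  dsimp only
  rw [if_neg (fun e => h1 (congrArg Fin.val e)), if_neg h2, if_neg hab, zero_add]

theorem cast_pm [CharP K 2] {z : ℤ} (h : z = 1 ∨ z = -1) : (z : K) = 1 := by
  rcases h with rfl | rfl <;> simp [CharTwo.neg_eq]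

theorem Mrep_x42 [CharP K 2] (t : K) : Mrep ((coreE6 K).xGL 42 t) = !![1, 0; t, 1] := by
  obtain ⟨⟨z, hz, e⟩, -, n1, -, n2, -, e', -⟩ := chain_rr
  ext i j
  rw [Mrep, (coreE6 K).coe_xGL]
  fin_cases i <;> fin_cases j
  · simp [rootDataE6.x_apply_self]
  · refine (x_inr (by decide) t (rr 0) (rr 1) (by decide) (Ne.symm n2) (by decide)).trans ?_
    show ((chevE6.chainCoeff 42 57 56).map _).sum = _
    rw [e']
    simp
  · refine (x_inr (by decide) t (rr 1) (rr 0) (by decide) (Ne.symm n1) (by decide)).trans ?_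
    show ((chevE6.chainCoeff 42 56 57).map _).sum = _
    rw [e]
    simp [cast_pm hz]
  · simp [rootDataE6.x_apply_self]

theorem Mrep_x29 [CharP K 2] (t : K) : Mrep ((coreE6 K).xGL 29 t) = !![1, t; 0, 1] := by
  obtain ⟨-, ⟨z, hz, e⟩, -, n1, -, n2, -, e'⟩ := chain_rr
  ext i j
  rw [Mrep, (coreE6 K).coe_xGL]
  fin_cases i <;> fin_cases j
  · simp [rootDataE6.x_apply_self]
  · refine (x_inr (by decide) t (rr 0) (rr 1) (by decide) (Ne.symm n1) (by decide)).trans ?_
    show ((chevE6.chainCoeff 29 57 56).map _).sum = _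
    rw [e]
    simp [cast_pm hz]
  · refine (x_inr (by decide) t (rr 1) (rr 0) (by decide) (Ne.symm n2) (by decide)).trans ?_
    show ((chevE6.chainCoeff 29 56 57).map _).sum = _
    rw [e']
    simp
  · simp [rootDataE6.x_apply_self]

theorem Mrep_torus (c : Fin chevE6.rank → Kˣ) : Mrep ((coreE6 K).R.torus c) =
    Matrix.diagonal fun i => ((coreE6 K).R.torusChar c (al (rr i).val) : K) := by
  ext i j
  rw [Mrep]
  by_cases hij : i = j
  · subst hij
    rw [Matrix.diagonal_apply_eq, (coreE6 K).R.coe_torus, Matrix.diagonal_apply_eq]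
    rfl
  · rw [Matrix.diagonal_apply_ne _ hij]
    refine (coreE6 K).apply_torus_of_ne c ?_
    fin_cases i <;> fin_cases j <;> first | exact absurd rfl hij | exact rr_ne | exact rr_ne.symm

end CfsgLib.TwistFive
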