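import Cfsg.Agent.Lib.TwistFive.Grade

/-!
The centraliser in the unipotent radical of the element of order five of the Levi factor: it is
generated by the six positive roots orthogonal to `p₃` and `p₅`.
-/

set_option autoImplicit false
set_option maxRecDepth 100000

namespace CfsgLib.TwistFive

open Cfsg.Lie CfsgLib.ChevStr CfsgLib.Twisted
open scoped MatrixGroups

/-- The pairs `(k, k + s)` for the four roots `s` of the Levi factor. -/
def pairsS : ℕ → List (ℕ × ℕ)
  | 42 => [(39, 43), (40, 44), (41, 45), (47, 50), (48, 51), (49, 52), (56, 57), (64, 67), (65, 68),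
      (66, 69)]
  | 37 => [(36, 38), (39, 40), (43, 44), (47, 48), (50, 51), (54, 55), (58, 59), (61, 62), (65, 66),
      (68, 69)]
  | 29 => [(43, 39), (44, 40), (45, 41), (50, 47), (51, 48), (52, 49), (57, 56), (67, 64), (68, 65),
      (69, 66)]
  | 34 => [(38, 36), (40, 39), (44, 43), (48, 47), (51, 50), (55, 54), (59, 58), (62, 61), (66, 65),
      (69, 68)]
  | _ => []

/-- The root `r - s`, or 72. -/
def preR (s r : ℕ) : ℕ := (((pairsS s).find? fun p => Nat.beq p.2 r).map Prod.fst).getD 72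

/-- The six positive roots orthogonal to both fundamental roots. -/
def phiR : List ℕ := [46, 53, 60, 63, 70, 71]

/-- The four roots of the Levi factor. -/
def leviR : List ℕ := [42, 37, 29, 34]

/-- The commutators with the roots of the Levi factor. -/
def stepOK : Bool :=
  leviR.all fun s => (List.finRange 72).all fun k =>
    if nnR k.val && decide (0 < k.val) && !(leviR.contains k.val) then
      !(Nat.beq s k.val) && !(Nat.beq s (chevE6.neg k.val)) &&
      (match chevE6.commTerms k.val s with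
       | [] => (List.range 72).all fun r => !(Nat.beq (preR s r) k.val)
       | [(m, z, 1, 1)] => (decide (z = 1) || decide (z = -1)) && Nat.blt m 72 &&
          (chevE6.commTerms m s == []) && !(Nat.beq s m) && !(Nat.beq s (chevE6.neg m)) &&
          (List.range 72).all (fun r => Nat.beq (preR s r) k.val == Nat.beq r m)
       | _ => false)
    else true

theorem step_ok : stepOK = true := by decide +kernel

theorem step_spec {s : ℕ} (hs : s ∈ leviR) {k : ℕ} (hk : k ∈ radS 1) :
    s ≠ k ∧ s ≠ chevE6.neg k ∧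
    ((chevE6.commTerms k s = [] ∧ ∀ r < 72, preR s r ≠ k) ∨
     ∃ (m : ℕ) (z : ℤ), chevE6.commTerms k s = [(m, z, 1, 1)] ∧ (z = 1 ∨ z = -1) ∧ m < 72 ∧
       chevE6.commTerms m s = [] ∧ s ≠ m ∧ s ≠ chevE6.neg m ∧ ∀ r < 72, preR s r = k ↔ r = m) := by
  obtain ⟨hp, h1, h2⟩ := hk
  have hlt : k < 72 := hp.1
  have h0 : k ≠ 0 := by
    rintro rfl
    have h := rootDataE6.isPos_iff 0
    have hneg : ¬ chevE6.IsPosRoot 0 := by decide +kernel
    exact hneg hp
  have hc : leviR.contains k = false := by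
    have hz : ∀ s ∈ leviR, outC (al s) = 0 := by
      simp only [outC_apply]
      decide +kernel
    by_contra hc
    simp only [Bool.not_eq_false, List.contains_iff_mem] at hc
    have := hz k hc
    omega
  have h := List.all_eq_true.1 (List.all_eq_true.1 step_ok s hs) ⟨k, hlt⟩ (List.mem_finRange _)
  simp only [nnR_of_pos hp, Nat.pos_of_ne_zero h0, decide_true, hc, Bool.not_false,
    Bool.and_self, if_true, Bool.and_eq_true, Bool.not_eq_true'] at h
  obtain ⟨⟨e1, e2⟩, h⟩ := h
  refine ⟨Nat.ne_of_beq_eq_false e1, Nat.ne_of_beq_eq_false e2, ?_⟩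
  split at h
  · rename_i heq
    refine Or.inl ⟨heq, fun r hr => ?_⟩
    exact Nat.ne_of_beq_eq_false (by simpa using List.all_eq_true.1 h r (List.mem_range.2 hr))
  · rename_i m z heq
    simp only [Bool.and_eq_true, Bool.or_eq_true, decide_eq_true_eq, beq_iff_eq, Nat.blt_eq,
      Bool.not_eq_true', List.all_eq_true, List.mem_range] at h
    obtain ⟨⟨⟨⟨⟨g1, g2⟩, g3⟩, g4⟩, g5⟩, g6⟩ := h
    refine Or.inr ⟨m, z, heq, g1, g2, g3, Nat.ne_of_beq_eq_false g4, Nat.ne_of_beq_eq_false g5,
      fun r hr => ?_⟩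
    have e := g6 r hr
    constructor
    · intro he
      rw [he, Nat.beq_refl] at e
      exact Nat.eq_of_beq_eq_true e.symm
    · intro he
      rw [he, Nat.beq_refl] at e
      exact Nat.eq_of_beq_eq_true (he ▸ e)
  · exact absurd h Bool.false_ne_true

/-- A coordinate at which the coroot is odd. -/
def coi (r : ℕ) : Fin chevE6.rank :=
  ((List.finRange chevE6.rank).find? fun i =>
    decide (((chevE6.coroot.getD r #[]).getD i.val 0) % 2 ≠ 0)).getD ⟨0, by decide⟩

theorem coi_odd : ∀ r : Fin chevE6.nroots,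
    ((chevE6.coroot.getD r.val #[]).getD (coi r.val).val 0) % 2 ≠ 0 := by decide +kernel

variable {K : Type*} [Field K]

/-- The coordinate of a root. -/
def chi (r : ℕ) (g : GL chevE6.Idx K) : K :=
  if h : r < chevE6.nroots then
    (g : Matrix chevE6.Idx chevE6.Idx K) (Sum.inl (coi r)) (Sum.inr ⟨chevE6.neg r, rootDataE6.neg_lt r h⟩)
  else 0

theorem chi_none (g : GL chevE6.Idx K) : chi 72 g = 0 :=
  dif_neg (show ¬ 72 < chevE6.nroots by decide)

theorem wt_chi {r : ℕ} (h : r < chevE6.nroots) :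
    rootDataE6.wt (Sum.inl (coi r) : chevE6.Idx) -
      rootDataE6.wt (Sum.inr ⟨chevE6.neg r, rootDataE6.neg_lt r h⟩) = al r := by
  rw [rootDataE6.wt_inl, rootDataE6.wt_inr, zero_sub, rootDataE6.α_neg r h, neg_neg]

theorem chi_mul {m r : ℕ} (hm : 1 ≤ m) (hr : outC (al r) = m) {g h : GL chevE6.Idx K}
    (hg : g ∈ (coreE6 K).Ucl (radS m)) (hh : h ∈ (coreE6 K).Ucl (radS m)) :
    chi r (g * h) = chi r g + chi r h := by
  by_cases hlt : r < chevE6.nroots
  swap
  · simp [chi, hlt]
  simp only [chi, dif_pos hlt]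
  set a : chevE6.Idx := Sum.inl (coi r)
  set b : chevE6.Idx := Sum.inr ⟨chevE6.neg r, rootDataE6.neg_lt r hlt⟩
  have hab : a ≠ b := Sum.inl_ne_inr
  have hG := (radU_le_uni m hg).1
  have hH := (radU_le_uni m hh).1
  have hGH : ((↑g - 1) * (↑h - 1) : Matrix chevE6.Idx chevE6.Idx K) a b = 0 := by
    refine (hG.mul hH (U := {v : V6 | 2 * (m : ℤ) ≤ outC v}) fun x hx y hy => ?_).apply_eq_zero ?_
    · show 2 * (m : ℤ) ≤ outC (x + y)
      rw [map_add]
      linarith [hx.1, hy.1]
    · intro hmem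
      have hmem' : 2 * (m : ℤ) ≤ outC (rootDataE6.wt a - rootDataE6.wt b) := hmem
      rw [wt_chi hlt, hr] at hmem'
      omega
  have e : ((g * h : GL chevE6.Idx K) : Matrix chevE6.Idx chevE6.Idx K) =
      1 + ((↑g - 1) + (↑h - 1) + (↑g - 1) * (↑h - 1)) := by
    rw [Units.val_mul]
    simp [sub_mul, mul_sub]
    abel
  rw [e, Matrix.add_apply, Matrix.one_apply_ne hab, zero_add, Matrix.add_apply, Matrix.add_apply,
    hGH, add_zero, Matrix.sub_apply, Matrix.sub_apply, Matrix.one_apply_ne hab, sub_zero, sub_zero]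

theorem chi_one (r : ℕ) : chi r (1 : GL chevE6.Idx K) = 0 := by
  unfold chi
  split
  · rw [Units.val_one, Matrix.one_apply_ne Sum.inl_ne_inr]
  · rfl

variable [CharP K 2]

theorem chi_x {m r k : ℕ} (hm : 1 ≤ m) (hr : outC (al r) = m) (hk : k ∈ radS m) (t : K) :
    chi r ((coreE6 K).xGL k t) = if r = k then t else 0 := by
  by_cases hlt : r < chevE6.nroots
  swap
  · rw [chi, dif_neg hlt, if_neg fun e => hlt (by rw [e]; exact hk.1.1)]
  rw [chi, dif_pos hlt, (coreE6 K).coe_xGL]
  split_ifs with h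
  · subst h
    rw [rootDataE6.x_apply_coroot hlt]
    have hodd := coi_odd ⟨r, hlt⟩
    have h1 : ((((chevE6.coroot.getD r #[]).getD (coi r).val 0) : ℤ) : K) = 1 := by
      generalize ((chevE6.coroot.getD r #[]).getD (coi r).val 0) = z at hodd
      obtain ⟨q, rfl⟩ : ∃ q, z = 2 * q + 1 := ⟨z / 2, by omega⟩
      push_cast
      rw [CharTwo.two_eq_zero, zero_mul, zero_add]
    rw [h1, one_mul]
  · by_contra hne
    obtain ⟨-, j, hj, hd⟩ := rootDataE6.x_apply_ne_zero Sum.inl_ne_inr hne
    rw [wt_chi hlt] at hd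
    have h2 := congrArg outC hd
    rw [hr, map_zsmul, smul_eq_mul] at h2
    have h3 := hk.2.1
    have hj1 : j = 1 := by
      by_contra hj1
      have : (2 : ℤ) ≤ j := by omega
      nlinarith
    subst hj1
    rw [Nat.cast_one, one_smul] at hd
    exact h (rootDataE6.α_inj hlt hk.1.1 hd)

theorem levi_conj_mem {s : ℕ} (hs : s ∈ leviR) {m : ℕ} (hm : 1 ≤ m) (a : K) :
    ∀ g ∈ (coreE6 K).Ucl (radS m),
      (coreE6 K).xGL s a * g * (coreE6 K).xGL s a ∈ (coreE6 K).Ucl (radS m) := by
  intro g hg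
  have hs0 : s < chevE6.nroots ∧ outC (al s) = 0 := by
    have hz : ∀ s ∈ leviR, s < chevE6.nroots ∧ outC (al s) = 0 := by
      simp only [outC_apply]
      decide +kernel
    exact hz s hs
  have hsn : nnR s = true := nnR_levi s hs
  have h := (coreE6 K).xGL_conj_mem (S := radS m) hs0.1 (fun k hk => ⟨hk.1.1, ?_, fun c hc => ?_⟩) a g hg
  · have einv : ((coreE6 K).xGL s a)⁻¹ = (coreE6 K).xGL s a := by
      rw [(coreE6 K).xGL_inv, CharTwo.neg_eq]
    rwa [einv] at h
  · intro e
    have h1 := hk.2.2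
    rw [e, show al (chevE6.neg s) = -al s from rootDataE6.α_neg s hs0.1, map_neg, hs0.2] at h1
    omega
  · obtain ⟨hc', p, q, hp, hq, e⟩ := hc
    have e' : al c = (p : ℤ) • al s + (q : ℤ) • al k := e
    have ho : outC (al c) = q * outC (al k) := by
      rw [e', map_add, map_zsmul, map_zsmul, hs0.2, smul_zero, zero_add, smul_eq_mul]
    have hq' : (1 : ℤ) ≤ q := by omega
    have h1 := hk.2.1
    have h2 := hk.2.2
    have hge : outC (al k) ≤ outC (al c) := by rw [ho]; nlinarith
    refine ⟨?_, by linarith, by linarith⟩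
    have hn : nnR c = true := (nnR_iff c).2 (by
      rw [e']
      exact NN_add _ (smul_mem_NN ((nnR_iff s).1 hsn) p) _
        (smul_mem_NN ((nnR_iff k).1 (nnR_of_pos hk.1)) q))
    rcases (root_facts ⟨c, hc'⟩).2.1 hn with h3 | h3 | h3
    · exact h3
    all_goals
      exfalso
      have h29 : outC (al 29) = 0 ∧ outC (al 34) = 0 := by
        simp only [outC_apply]
        decide +kernel
      have h3' : c = _ := h3
      rw [h3'] at hge
      omega

theorem chi_conj {s : ℕ} (hs : s ∈ leviR) {m r : ℕ} (hm : 1 ≤ m) (hrr : r < 72)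
    (hr : outC (al r) = m) (hpre : preR s r < 72 → outC (al (preR s r)) = m) (a : K) :
    ∀ g ∈ (coreE6 K).Ucl (radS m), chi r ((coreE6 K).xGL s a * g * (coreE6 K).xGL s a) =
      chi r g + a * chi (preR s r) g := by
  have hsq : (coreE6 K).xGL s a * (coreE6 K).xGL s a = 1 := by
    rw [← (coreE6 K).xGL_add, CharTwo.add_self_eq_zero, (coreE6 K).xGL_zero]
  have hsn : s < chevE6.nroots := by
    have hz : ∀ s ∈ leviR, s < chevE6.nroots := by decide
    exact hz s hs
  have hpadd : ∀ g ∈ (coreE6 K).Ucl (radS m), ∀ h ∈ (coreE6 K).Ucl (radS m),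
      chi (preR s r) (g * h) = chi (preR s r) g + chi (preR s r) h := by
    intro g hg h hh
    by_cases hp : preR s r < 72
    · exact chi_mul hm (hpre hp) hg hh
    · have hp' : ¬ preR s r < chevE6.nroots := hp
      simp [chi, hp']
  have hpgen : ∀ k ∈ radS m, ∀ t : K,
      chi (preR s r) ((coreE6 K).xGL k t) = if preR s r = k then t else 0 := by
    intro k hk t
    by_cases hp : preR s r < 72
    · exact chi_x hm (hpre hp) hk t
    · have hp' : ¬ preR s r < chevE6.nroots := hp
      rw [chi, dif_neg hp', if_neg fun e => hp' (by rw [e]; exact hk.1.1)]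
  intro g hg
  refine Subgroup.closure_induction
    (p := fun g _ => chi r ((coreE6 K).xGL s a * g * (coreE6 K).xGL s a) =
      chi r g + a * chi (preR s r) g) ?_ ?_ ?_ ?_ hg
  · rintro _ ⟨k, hk, t, rfl⟩
    have hk1 : k ∈ radS 1 := ⟨hk.1, by exact_mod_cast hk.2.2, hk.2.2⟩
    obtain ⟨n1, n2, h⟩ := step_spec hs hk1
    rw [hpgen k hk t, chi_x hm hr hk t, (coreE6 K).xGL_comm hk.1.1 hsn n1 n2]
    rcases h with ⟨hc, hne⟩ | ⟨c, z, hc, hz, hclt, hcc, c1, c2, hiff⟩
    · rw [ChevalleyDatum.commWord, hc, List.map_nil, (coreE6 K).wordGL_nil, mul_one, mul_assoc,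
        hsq, mul_one, chi_x hm hr hk t, if_neg (hne r hrr), mul_zero, add_zero]
    · have hcm : c ∈ radS m := by
        obtain ⟨hc', -, -, e⟩ := (rootDataE6).commTerms_spec
          (show (c, z, 1, 1) ∈ chevE6.commTerms k s by rw [hc]; simp)
        simp only [Nat.cast_one, one_smul] at e
        have e' : al c = al k + al s := e
        have hs0 : outC (al s) = 0 := by
          have hz : ∀ s ∈ leviR, outC (al s) = 0 := by
            simp only [outC_apply]
            decide +kernel
          exact hz s hs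
        have ho : outC (al c) = outC (al k) := by rw [e', map_add, hs0, add_zero]
        refine ⟨?_, by rw [ho]; exact hk.2.1, by rw [ho]; exact hk.2.2⟩
        have hn : nnR c = true := (nnR_iff c).2 (by
          rw [e']
          exact NN_add _ ((nnR_iff k).1 (nnR_of_pos hk.1)) _ ((nnR_iff s).1 (nnR_levi s hs)))
        rcases (root_facts ⟨c, hc'⟩).2.1 hn with h3 | h3 | h3
        · exact h3
        all_goals
          exfalso
          have h29 : outC (al 29) = 0 ∧ outC (al 34) = 0 := by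
            simp only [outC_apply]
            decide +kernel
          have h3' : c = _ := h3
          have := hk.2.2
          rw [h3'] at ho
          omega
      have hword : (coreE6 K).wordGL (chevE6.commWord K k s t a) = (coreE6 K).xGL c (a * t) := by
        rw [ChevalleyDatum.commWord, hc, List.map_cons, List.map_nil, (coreE6 K).wordGL_cons,
          (coreE6 K).wordGL_nil, mul_one]
        congr 1
        rw [cast_pm hz, pow_one, pow_one, CharTwo.neg_eq, one_mul, mul_comm]
      have hcom := (coreE6 K).xGL_comm (r := c) (s := s) hclt hsn c1 c2 (a * t) a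
      rw [ChevalleyDatum.commWord, hcc, List.map_nil, (coreE6 K).wordGL_nil, mul_one] at hcom
      rw [hword, mul_assoc ((coreE6 K).xGL k t * (coreE6 K).xGL s a), ← hcom,
        mul_assoc ((coreE6 K).xGL k t), ← mul_assoc ((coreE6 K).xGL s a), hsq, one_mul,
        chi_mul hm hr ((coreE6 K).xGL_mem_Ucl hk t) ((coreE6 K).xGL_mem_Ucl hcm _),
        chi_x hm hr hk t, chi_x hm hr hcm]
      congr 1
      by_cases e : r = c
      · rw [if_pos e, if_pos ((hiff r hrr).2 e)]
      · rw [if_neg e, if_neg fun e' => e ((hiff r hrr).1 e'), mul_zero]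
  · rw [mul_one, hsq, chi_one, chi_one, mul_zero, add_zero]
  · intro u v hu hv h1 h2
    have hu' := levi_conj_mem hs hm a u hu
    have hv' := levi_conj_mem hs hm a v hv
    rw [show (coreE6 K).xGL s a * (u * v) * (coreE6 K).xGL s a =
        ((coreE6 K).xGL s a * u * (coreE6 K).xGL s a) *
          ((coreE6 K).xGL s a * v * (coreE6 K).xGL s a) by
      simp only [mul_assoc]
      rw [← mul_assoc ((coreE6 K).xGL s a) ((coreE6 K).xGL s a) _, hsq, one_mul],
      chi_mul hm hr hu' hv', chi_mul hm hr hu hv, hpadd u hu v hv, h1, h2]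
    ring
  · intro u hu h1
    have hu' := levi_conj_mem hs hm a u hu
    have hi' := levi_conj_mem hs hm a u⁻¹ (inv_mem hu)
    have e0 := chi_mul hm hr hu (inv_mem hu)
    have e1 := hpadd u hu u⁻¹ (inv_mem hu)
    have e2 := chi_mul hm hr hu' hi'
    rw [mul_inv_cancel, chi_one] at e0 e1
    rw [show ((coreE6 K).xGL s a * u * (coreE6 K).xGL s a) *
        ((coreE6 K).xGL s a * u⁻¹ * (coreE6 K).xGL s a) = 1 by
      simp only [mul_assoc]
      rw [← mul_assoc ((coreE6 K).xGL s a) ((coreE6 K).xGL s a) _, hsq, one_mul,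
        mul_inv_cancel_left, hsq], chi_one] at e2
    linear_combination -e2 + e0 + a * e1 - h1

/-- The element of order five of the Levi factor. -/
noncomputable def xEl (w : K) : GL chevE6.Idx K :=
  (coreE6 K).xGL 42 w * (coreE6 K).xGL 37 (w + 1) *
    ((coreE6 K).xGL 29 w * (coreE6 K).xGL 34 (w + 1))

/-- The inverse of the element of order five. -/
noncomputable def xInv (w : K) : GL chevE6.Idx K :=
  (coreE6 K).xGL 34 (w + 1) * (coreE6 K).xGL 29 w *
    ((coreE6 K).xGL 37 (w + 1) * (coreE6 K).xGL 42 w)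

theorem xEl_mul_xInv (w : K) : xEl w * xInv w = 1 := by
  have hsq : ∀ (s : ℕ) (a : K), (coreE6 K).xGL s a * (coreE6 K).xGL s a = 1 := fun s a => by
    rw [← (coreE6 K).xGL_add, CharTwo.add_self_eq_zero, (coreE6 K).xGL_zero]
  simp only [xEl, xInv, mul_assoc]
  rw [← mul_assoc ((coreE6 K).xGL 34 (w + 1)), hsq, one_mul,
    ← mul_assoc ((coreE6 K).xGL 29 w), hsq, one_mul,
    ← mul_assoc ((coreE6 K).xGL 37 (w + 1)), hsq, one_mul, hsq]

/-- One conjugation on the coordinates. -/
def stepF (s : ℕ) (a : K) (f : ℕ → K) (r : ℕ) : K := f r + a * f (preR s r)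

/-- The classes of roots of size two and four. -/
def cls3 : List (ℕ × ℕ) := [(41, 45), (49, 52), (56, 57), (64, 67)]

/-- The classes of size two for the other fundamental root. -/
def cls5 : List (ℕ × ℕ) := [(36, 38), (54, 55), (58, 59), (61, 62)]

/-- The classes of size four. -/
def cls4 : List (ℕ × ℕ × ℕ × ℕ) := [(39, 43, 40, 44), (47, 50, 48, 51), (65, 68, 66, 69)]

theorem cls_facts :
    (∀ p ∈ cls3, preR 42 p.1 = 72 ∧ preR 42 p.2 = p.1 ∧ preR 29 p.1 = p.2 ∧ preR 29 p.2 = 72 ∧
      preR 37 p.1 = 72 ∧ preR 37 p.2 = 72 ∧ preR 34 p.1 = 72 ∧ preR 34 p.2 = 72) ∧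
    (∀ p ∈ cls5, preR 37 p.1 = 72 ∧ preR 37 p.2 = p.1 ∧ preR 34 p.1 = p.2 ∧ preR 34 p.2 = 72 ∧
      preR 42 p.1 = 72 ∧ preR 42 p.2 = 72 ∧ preR 29 p.1 = 72 ∧ preR 29 p.2 = 72) ∧
    (∀ p ∈ cls4, preR 42 p.1 = 72 ∧ preR 42 p.2.1 = p.1 ∧ preR 42 p.2.2.1 = 72 ∧
      preR 42 p.2.2.2 = p.2.2.1 ∧ preR 37 p.1 = 72 ∧ preR 37 p.2.1 = 72 ∧ preR 37 p.2.2.1 = p.1 ∧
      preR 37 p.2.2.2 = p.2.1 ∧ preR 29 p.1 = p.2.1 ∧ preR 29 p.2.1 = 72 ∧
      preR 29 p.2.2.1 = p.2.2.2 ∧ preR 29 p.2.2.2 = 72 ∧ preR 34 p.1 = p.2.2.1 ∧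
      preR 34 p.2.1 = p.2.2.2 ∧ preR 34 p.2.2.1 = 72 ∧ preR 34 p.2.2.2 = 72) ∧
    (∀ s ∈ leviR, preR s 72 = 72) := by
  decide +kernel

theorem cls_cover : ∀ r : Fin 72, chevE6.IsPosRoot r.val → r.val = 42 ∨ r.val = 37 ∨
    r.val ∈ phiR ∨ r.val ∈ cls3.flatMap (fun p => [p.1, p.2]) ∨
      r.val ∈ cls5.flatMap (fun p => [p.1, p.2]) ∨
      r.val ∈ cls4.flatMap (fun p => [p.1, p.2.1, p.2.2.1, p.2.2.2]) := by decide +kernel

theorem preR_out : ∀ s ∈ leviR, ∀ r : Fin 72, preR s r.val < 72 →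
    outC (al (preR s r.val)) = outC (al r.val) := by
  simp only [outC_apply]
  decide +kernel

/-- A fixed point of the four steps. -/
def FixT (w : K) (f : ℕ → K) (r : ℕ) : Prop :=
  stepF 42 w (stepF 37 (w + 1) (stepF 29 w (stepF 34 (w + 1) f))) r = f r

theorem fix_cls3 {w : K} (hw : w ≠ 0) {f : ℕ → K} (h0 : f 72 = 0) {p : ℕ × ℕ} (hp : p ∈ cls3)
    (h1 : FixT w f p.1) (h2 : FixT w f p.2) : f p.1 = 0 ∧ f p.2 = 0 := by
  obtain ⟨a1, a2, a3, a4, a5, a6, a7, a8⟩ := cls_facts.1 p hp
  have z := cls_facts.2.2.2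
  have z1 := z 42 (by simp [leviR])
  have z2 := z 37 (by simp [leviR])
  have z3 := z 29 (by simp [leviR])
  have z4 := z 34 (by simp [leviR])
  simp only [FixT, stepF, a1, a2, a3, a4, a5, a6, a7, a8, z1, z2, z3, z4, h0, mul_zero,
    add_zero, zero_add, add_eq_left, mul_eq_zero, hw, false_or] at h1 h2
  rw [h1, mul_zero, add_zero] at h2
  exact ⟨h2, h1⟩

theorem fix_cls5 {w : K} (hv : w + 1 ≠ 0) {f : ℕ → K} (h0 : f 72 = 0) {p : ℕ × ℕ} (hp : p ∈ cls5)
    (h1 : FixT w f p.1) (h2 : FixT w f p.2) : f p.1 = 0 ∧ f p.2 = 0 := by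
  obtain ⟨a1, a2, a3, a4, a5, a6, a7, a8⟩ := cls_facts.2.1 p hp
  have z := cls_facts.2.2.2
  have z1 := z 42 (by simp [leviR])
  have z2 := z 37 (by simp [leviR])
  have z3 := z 29 (by simp [leviR])
  have z4 := z 34 (by simp [leviR])
  simp only [FixT, stepF, a1, a2, a3, a4, a5, a6, a7, a8, z1, z2, z3, z4, h0, mul_zero,
    add_zero, zero_add, add_eq_left, mul_eq_zero, hv, false_or] at h1 h2
  rw [h1, mul_zero, add_zero] at h2
  exact ⟨h2, h1⟩

theorem fix_cls4 {w : K} {f : ℕ → K} (h0 : f 72 = 0) {p : ℕ × ℕ × ℕ × ℕ} (hp : p ∈ cls4)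
    (h1 : FixT w f p.1) (h2 : FixT w f p.2.1) (h3 : FixT w f p.2.2.1) (h4 : FixT w f p.2.2.2) :
    f p.1 = 0 ∧ f p.2.1 = 0 ∧ f p.2.2.1 = 0 ∧ f p.2.2.2 = 0 := by
  obtain ⟨a1, a2, a3, a4, a5, a6, a7, a8, b1, b2, b3, b4, b5, b6, b7, b8⟩ := cls_facts.2.2.1 p hp
  have z := cls_facts.2.2.2
  have z1 := z 42 (by simp [leviR])
  have z2 := z 37 (by simp [leviR])
  have z3 := z 29 (by simp [leviR])
  have z4 := z 34 (by simp [leviR])
  simp only [FixT, stepF, a1, a2, a3, a4, a5, a6, a7, a8, b1, b2, b3, b4, b5, b6, b7, b8, z1, z2,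
    z3, z4, h0, mul_zero, add_zero, zero_add] at h1 h2 h3 h4
  generalize f p.1 = a at h1 h2 h3 h4 ⊢
  generalize f p.2.1 = b at h1 h2 h3 h4 ⊢
  generalize f p.2.2.1 = c at h1 h2 h3 h4 ⊢
  generalize f p.2.2.2 = d at h1 h2 h3 h4 ⊢
  have two : (2 : K) = 0 := CharTwo.two_eq_zero
  have E1 : (w + 1) * c + w * (b + (w + 1) * d) = 0 := by linear_combination h1
  have E2 : (w + 1) * d + w * a = 0 := by linear_combination h2 - w * E1
  have E3 : w * d + (w + 1) * a = 0 := by linear_combination h3 - (w + 1) * E1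
  have ead : a + d = 0 := by linear_combination E2 + E3 - w * (a + d) * two
  have ed : d = 0 := by linear_combination (w + 1) * ead - E3
  have ea : a = 0 := by linear_combination ead - ed
  subst ed ea
  have E4 : (w + 1) * b + w * c = 0 := by linear_combination h4 - w * (w + 1) * E1
  have E1' : (w + 1) * c + w * b = 0 := by linear_combination E1
  have ebc : b + c = 0 := by linear_combination E4 + E1' - w * (b + c) * two
  have eb : b = 0 := by linear_combination E4 - w * ebc
  exact ⟨rfl, eb, by linear_combination ebc - eb, rfl⟩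

/-- A fixed element of a layer has no coordinates outside the six roots. -/
theorem chi_fixed {w : K} (hw : w ≠ 0) (hv : w + 1 ≠ 0) {m : ℕ} (hm : 1 ≤ m)
    {g : GL chevE6.Idx K} (hg : g ∈ (coreE6 K).Ucl (radS m)) (hcomm : Commute (xEl w) g) :
    ∀ r : Fin 72, outC (al r.val) = m → chevE6.IsPosRoot r.val → r.val ∉ phiR → chi r.val g = 0 := by
  have hx : xEl w * g * xInv w = g := by
    rw [hcomm.eq, mul_assoc, xEl_mul_xInv, mul_one]
  have hT : ∀ r : ℕ, r < 72 → outC (al r) = m → FixT w (fun k => chi k g) r := by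
    intro r hr hro
    have m34 := levi_conj_mem (s := 34) (by simp [leviR]) hm (w + 1) g hg
    have m29 := levi_conj_mem (s := 29) (by simp [leviR]) hm w _ m34
    have m37 := levi_conj_mem (s := 37) (by simp [leviR]) hm (w + 1) _ m29
    have hrw : xEl w * g * xInv w = (coreE6 K).xGL 42 w * ((coreE6 K).xGL 37 (w + 1) *
        ((coreE6 K).xGL 29 w * ((coreE6 K).xGL 34 (w + 1) * g * (coreE6 K).xGL 34 (w + 1)) *
          (coreE6 K).xGL 29 w) * (coreE6 K).xGL 37 (w + 1)) * (coreE6 K).xGL 42 w := by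
      simp only [xEl, xInv, mul_assoc]
    rw [hrw] at hx
    -- one layer of coordinates after each step
    have hpre : ∀ {s : ℕ}, s ∈ leviR → ∀ {k : ℕ}, k < 72 → outC (al k) = (m : ℤ) →
        preR s k < 72 → outC (al (preR s k)) = (m : ℤ) := fun hs k hk hko h =>
      (preR_out _ hs ⟨k, hk⟩ h).trans hko
    have step : ∀ {s : ℕ}, s ∈ leviR → ∀ (a : K), ∀ u ∈ (coreE6 K).Ucl (radS m), ∀ {f : ℕ → K},
        (∀ k, (k < 72 → outC (al k) = (m : ℤ)) → chi k u = f k) →
        ∀ k, (k < 72 → outC (al k) = (m : ℤ)) →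
          chi k ((coreE6 K).xGL s a * u * (coreE6 K).xGL s a) = stepF s a f k := by
      intro s hs a u hu f hf k hk
      by_cases hlt : k < 72
      · rw [chi_conj hs hm hlt (hk hlt) (hpre hs hlt (hk hlt)) a u hu, stepF, hf k hk,
          hf (preR s k) (hpre hs hlt (hk hlt))]
      · have hp : ¬ k < chevE6.nroots := hlt
        have hk72 : preR s k = 72 ∨ k ≠ 72 := by
          rcases eq_or_ne k 72 with rfl | h
          · exact Or.inl (cls_facts.2.2.2 s hs)
          · exact Or.inr h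
        have h2 : ∀ p ∈ pairsS s, p.2 < 72 := by
          have := hs
          simp only [leviR, List.mem_cons, List.not_mem_nil, or_false] at this
          rcases this with rfl | rfl | rfl | rfl <;> decide
        have hpk : preR s k = 72 := by
          unfold preR
          rw [List.find?_eq_none.2 fun p hp' e => hlt ((Nat.eq_of_beq_eq_true (show Nat.beq p.2 k = true from e)).symm.trans_lt (h2 p hp'))]
          rfl
        rw [stepF, hpk, ← hf k hk, ← hf 72 fun h => absurd h (by norm_num), chi_none, mul_zero,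
          add_zero]
        simp [chi, hp]
    have s1 := step (s := 34) (by simp [leviR]) (w + 1) g hg (f := fun k => chi k g) fun k _ => rfl
    have s2 := step (s := 29) (by simp [leviR]) w _ m34 s1
    have s3 := step (s := 37) (by simp [leviR]) (w + 1) _ m29 s2
    have s4 := step (s := 42) (by simp [leviR]) w _ m37 s3
    have e := s4 r fun _ => hro
    rw [hx] at e
    exact e.symm
  intro r hro hpos hphi
  have h0 : (fun k => chi k g) 72 = 0 := chi_none g
  have hsame : ∀ p ∈ cls3 ++ cls5, outC (al p.1) = outC (al p.2) ∧ p.1 < 72 ∧ p.2 < 72 := by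
    simp only [outC_apply]
    decide +kernel
  have hsame4 : ∀ p ∈ cls4, outC (al p.1) = outC (al p.2.1) ∧ outC (al p.1) = outC (al p.2.2.1) ∧
      outC (al p.1) = outC (al p.2.2.2) ∧ p.1 < 72 ∧ p.2.1 < 72 ∧ p.2.2.1 < 72 ∧ p.2.2.2 < 72 := by
    simp only [outC_apply]
    decide +kernel
  rcases cls_cover r hpos with h | h | h | h | h | h
  · have : outC (al 42) = 0 := by simp only [outC_apply]; decide +kernel
    rw [h] at hro; omega
  · have : outC (al 37) = 0 := by simp only [outC_apply]; decide +kernel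
    rw [h] at hro; omega
  · exact absurd h hphi
  · simp only [List.mem_flatMap, List.mem_cons, List.not_mem_nil, or_false] at h
    obtain ⟨p, hp, hrp⟩ := h
    obtain ⟨e, l1, l2⟩ := hsame p (List.mem_append_left _ hp)
    have o1 : outC (al p.1) = m := by
      rcases hrp with hrp | hrp <;> rw [hrp] at hro <;> linarith
    obtain ⟨z1, z2⟩ := fix_cls3 hw h0 hp (hT _ l1 o1) (hT _ l2 (e.symm.trans o1))
    rcases hrp with hrp | hrp <;> rw [hrp] <;> assumption
  · simp only [List.mem_flatMap, List.mem_cons, List.not_mem_nil, or_false] at h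
    obtain ⟨p, hp, hrp⟩ := h
    obtain ⟨e, l1, l2⟩ := hsame p (List.mem_append_right _ hp)
    have o1 : outC (al p.1) = m := by
      rcases hrp with hrp | hrp <;> rw [hrp] at hro <;> linarith
    obtain ⟨z1, z2⟩ := fix_cls5 hv h0 hp (hT _ l1 o1) (hT _ l2 (e.symm.trans o1))
    rcases hrp with hrp | hrp <;> rw [hrp] <;> assumption
  · simp only [List.mem_flatMap, List.mem_cons, List.not_mem_nil, or_false] at h
    obtain ⟨p, hp, hrp⟩ := h
    obtain ⟨e1, e2, e3, l1, l2, l3, l4⟩ := hsame4 p hp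
    have o1 : outC (al p.1) = m := by
      rcases hrp with hrp | hrp | hrp | hrp <;> rw [hrp] at hro <;> linarith
    obtain ⟨z1, z2, z3, z4⟩ := fix_cls4 h0 hp (hT _ l1 o1) (hT _ l2 (e1.symm.trans o1))
      (hT _ l3 (e2.symm.trans o1)) (hT _ l4 (e3.symm.trans o1))
    rcases hrp with hrp | hrp | hrp | hrp <;> rw [hrp] <;> assumption

theorem isClosed_radS (m : ℕ) : (coreE6 K).R.IsClosed (radS m) := by
  refine ⟨fun r hr => hr.1, fun r hr s hs k hk => ?_⟩
  refine ⟨(coreE6 K).R.combo_pos hr.1 hs.1 hk, ?_⟩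
  obtain ⟨-, a, b, ha, hb, e⟩ := hk
  have e' : al k = (a : ℤ) • al r + (b : ℤ) • al s := e
  have ha' : (1 : ℤ) ≤ a := by omega
  have hb' : (1 : ℤ) ≤ b := by omega
  have := hr.2.1
  have := hr.2.2
  have := hs.2.2
  rw [e', map_add, map_zsmul, map_zsmul, smul_eq_mul, smul_eq_mul]
  constructor <;> nlinarith

theorem outC_le : ∀ r : Fin chevE6.nroots, outC (al r.val) ≤ 7 := by
  simp only [outC_apply]
  decide +kernel

theorem phi_facts : (∀ k ∈ phiR, ∀ s ∈ leviR, s ≠ k ∧ s ≠ chevE6.neg k ∧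
      chevE6.commTerms k s = []) ∧
    ∀ k ∈ phiR, chevE6.IsPosRoot k := by
  decide +kernel

theorem phi_commute (w : K) {g : GL chevE6.Idx K} (hg : g ∈ (coreE6 K).Ucl {r | r ∈ phiR}) :
    Commute (xEl w) g := by
  have hle : (coreE6 K).Ucl {r | r ∈ phiR} ≤ Subgroup.centralizer {xEl w} := by
    refine (coreE6 K).Ucl_le fun k hk t => ?_
    rw [Subgroup.mem_centralizer_singleton_iff]
    have h : ∀ s ∈ leviR, ∀ a : K, Commute ((coreE6 K).xGL s a) ((coreE6 K).xGL k t) := by
      intro s hs a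
      have hsn : ∀ s ∈ leviR, s < chevE6.nroots := by decide
      obtain ⟨hne1, hne2, he⟩ := phi_facts.1 k hk s hs
      have hk' : k < chevE6.nroots := (phi_facts.2 k hk).1
      have hc := (coreE6 K).xGL_comm (r := k) (s := s) hk' (hsn s hs) hne1 hne2 t a
      rw [ChevalleyDatum.commWord, he, List.map_nil, (coreE6 K).wordGL_nil, mul_one] at hc
      exact hc
    exact (((h 42 (by simp [leviR]) w).mul_left (h 37 (by simp [leviR]) _)).mul_left
      ((h 29 (by simp [leviR]) w).mul_left (h 34 (by simp [leviR]) _))).eq.symm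
  exact (Subgroup.mem_centralizer_singleton_iff.1 (hle hg)).symm

/-- The centraliser in the radical. -/
theorem centralizer_radical {w : K} (hw : w ≠ 0) (hv : w + 1 ≠ 0) {g : GL chevE6.Idx K}
    (hg : g ∈ (coreE6 K).Ucl (radS 1)) (hcomm : Commute (xEl w) g) :
    g ∈ (coreE6 K).Ucl {r | r ∈ phiR} := by
  classical
  suffices h : ∀ d m, 1 ≤ m → 8 ≤ m + d → ∀ g ∈ (coreE6 K).Ucl (radS m), Commute (xEl w) g →
      g ∈ (coreE6 K).Ucl {r | r ∈ phiR} from h 7 1 le_rfl le_rfl g hg hcomm
  intro d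
  induction d with
  | zero =>
    intro m _ hm g hg _
    have hempty : radS m ⊆ {r | r ∈ phiR} := fun r hr => by
      have := outC_le ⟨r, hr.1.1⟩
      have h2 := hr.2.1
      have : outC (al r) ≤ 7 := this
      omega
    exact (coreE6 K).Ucl_mono hempty hg
  | succ d ih =>
    intro m hm hmd g hg hcomm
    set A := (coreE6 K).Ucl {r | r ∈ phiR ∧ r ∈ radS m}
    set N := (coreE6 K).Ucl (radS (m + 1))
    have hAN : A ≤ Subgroup.normalizer (N : Set (GL chevE6.Idx K)) := by
      refine (coreE6 K).Ucl_le fun r hr t => ?_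
      refine (coreE6 K).pos_normalizes hr.2.1 (fun s hs => hs.1) (fun s hs k hk => ?_) t
      refine ⟨(coreE6 K).R.combo_pos hr.2.1 hs.1 hk, ?_⟩
      obtain ⟨-, a, b, ha, hb, e⟩ := hk
      have e' : al k = (a : ℤ) • al r + (b : ℤ) • al s := e
      have ha' : (1 : ℤ) ≤ a := by omega
      have hb' : (1 : ℤ) ≤ b := by omega
      have := hr.2.2.2
      have h5 := hs.2.1
      have := hs.2.2
      rw [e', map_add, map_zsmul, map_zsmul, smul_eq_mul, smul_eq_mul]
      push_cast at h5 ⊢
      constructor <;> nlinarith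
    set L := (coreE6 K).rootList (radS m) with hL
    have hset := (coreE6 K).setOf_mem_rootList (S := radS m) fun r hr => hr.1.1
    obtain ⟨t, ht⟩ := (coreE6 K).exists_word (L := L) (ChevCore.sorted_filter _)
      (by rw [hL, hset]; exact isClosed_radS m) g (by rw [hL, hset]; exact hg)
    have hmemL : ∀ r ∈ L, r ∈ radS m := fun r hr => by
      have : r ∈ {k | k ∈ (coreE6 K).rootList (radS m)} := hr
      rwa [hset] at this
    have hcoord : ∀ r : ℕ, outC (al r) = m → ∀ L' : List ℕ, (∀ k ∈ L', k ∈ radS m) → L'.Nodup →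
        r ∈ L' → chi r ((coreE6 K).word L' t) = t r := by
      intro r hr L'
      have hz : ∀ L' : List ℕ, (∀ k ∈ L', k ∈ radS m) → r ∉ L' →
          chi r ((coreE6 K).word L' t) = 0 := by
        intro L' hL' hn
        induction L' with
        | nil => rw [(coreE6 K).word_nil, chi_one]
        | cons k L' ih =>
          have hsub : (coreE6 K).word L' t ∈ (coreE6 K).Ucl (radS m) :=
            (coreE6 K).Ucl_mono (fun i hi => hL' i (List.mem_cons_of_mem _ hi))
              ((coreE6 K).word_mem L' t)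
          rw [(coreE6 K).word_cons, chi_mul hm hr ((coreE6 K).xGL_mem_Ucl (hL' k
            List.mem_cons_self) _) hsub, chi_x hm hr (hL' k List.mem_cons_self),
            if_neg fun e => hn (by rw [e]; exact List.mem_cons_self), zero_add,
            ih (fun i hi => hL' i (List.mem_cons_of_mem _ hi)) fun e => hn (List.mem_cons_of_mem _ e)]
      induction L' with
      | nil => intro _ _ h; simp at h
      | cons k L' ih =>
        intro hL' hnd hr'
        have hsub : (coreE6 K).word L' t ∈ (coreE6 K).Ucl (radS m) :=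
          (coreE6 K).Ucl_mono (fun i hi => hL' i (List.mem_cons_of_mem _ hi))
            ((coreE6 K).word_mem L' t)
        obtain ⟨hk, hnd'⟩ := List.nodup_cons.1 hnd
        rw [(coreE6 K).word_cons, chi_mul hm hr ((coreE6 K).xGL_mem_Ucl (hL' k
            List.mem_cons_self) _) hsub, chi_x hm hr (hL' k List.mem_cons_self)]
        rcases List.mem_cons.1 hr' with rfl | h
        · rw [if_pos rfl, hz L' (fun i hi => hL' i (List.mem_cons_of_mem _ hi)) hk, add_zero]
        · rw [if_neg fun e => hk (by rw [← e]; exact h), zero_add,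
            ih (fun i hi => hL' i (List.mem_cons_of_mem _ hi)) hnd' h]
    have hfac : g ∈ A ⊔ N := by
      rw [ht]
      refine Subgroup.list_prod_mem _ fun x hx => ?_
      simp only [List.map_map, List.mem_map, Function.comp] at hx
      obtain ⟨r, hr, rfl⟩ := hx
      have hrS := hmemL r hr
      by_cases h1 : ((m + 1 : ℕ) : ℤ) ≤ outC (al r)
      · exact Subgroup.mem_sup_right ((coreE6 K).xGL_mem_Ucl (S := radS (m + 1)) ⟨hrS.1, h1, hrS.2.2⟩ _)
      by_cases h2 : r ∈ phiR
      · exact Subgroup.mem_sup_left ((coreE6 K).xGL_mem_Ucl (S := {r | r ∈ phiR ∧ r ∈ radS m})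
          ⟨h2, hrS⟩ _)
      · have hro : outC (al r) = m := by
          have := hrS.2.1
          push_cast at h1
          omega
        have hnd : L.Nodup := (ChevCore.sorted_filter _).imp ne_of_lt
        have h0 := chi_fixed hw hv hm hg hcomm ⟨r, hrS.1.1⟩ hro hrS.1 h2
        rw [show chi r g = t r by rw [ht]; exact hcoord r hro L hmemL hnd hr] at h0
        rw [h0, (coreE6 K).xGL_zero]
        exact one_mem _
    rw [← SetLike.mem_coe, Subgroup.coe_mul_of_left_le_normalizer_right _ _ hAN] at hfac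
    obtain ⟨a, ha, b, hb, rfl⟩ := hfac
    have ha' : a ∈ (coreE6 K).Ucl {r | r ∈ phiR} := (coreE6 K).Ucl_mono (fun r hr => hr.1) ha
    refine mul_mem ha' (ih (m + 1) (by omega) (by omega) b hb ?_)
    have h1 := phi_commute w ha'
    have h2 : Commute (xEl w) (a⁻¹ * (a * b)) := h1.inv_right.mul_right hcomm
    rwa [inv_mul_cancel_left] at h2

end CfsgLib.TwistFive
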