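import Cfsg.Agent.Lib.TwistFive.ClassCert
import Cfsg.Agent.Lib.Schur.E6Two.GroupGens
import Mathlib.GroupTheory.Sylow
import Mathlib.GroupTheory.NoncommCoprod

/-!
All elements of order five of ²E₆(2) are conjugate.
-/

set_option autoImplicit false
set_option maxRecDepth 100000
set_option exponentiation.threshold 10000

namespace CfsgLib.TwistFive

open Cfsg.Lie CfsgLib.ChevStr CfsgLib.Twisted
open scoped MatrixGroups

section abstract

variable {H : Type*} [Group H]

theorem exists_pow_lt {b : H} (hb : b ^ 5 = 1) {z : H} (hz : z ∈ Subgroup.zpowers b) :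
    ∃ i < 5, b ^ i = z := by
  obtain ⟨k, rfl⟩ := Subgroup.mem_zpowers_iff.1 hz
  refine ⟨(k % 5).toNat, by omega, ?_⟩
  have h1 : ((k % 5).toNat : ℤ) = k % 5 := Int.toNat_of_nonneg (by omega)
  rw [← zpow_natCast b (k % 5).toNat, h1]
  conv_rhs => rw [← Int.emod_add_mul_ediv k 5, zpow_add, zpow_mul]
  have h5 : b ^ (5 : ℤ) = 1 := by exact_mod_cast hb
  rw [h5, one_zpow, mul_one]

/-- One class of elements of order five, from one class in a Sylow subgroup of order 25. -/
theorem one_class_of [Finite H] (b c : H) (hb : b ^ 5 = 1) (hc : c ^ 5 = 1) (hbc : b * c = c * b)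
    (hb1 : b ≠ 1) (hcb : ∀ i < 5, b ^ i ≠ c) (hfac : (Nat.card H).factorization 5 = 2)
    (hconj : ∀ i < 5, ∀ j < 5, ¬(i = 0 ∧ j = 0) → IsConj b (b ^ i * c ^ j)) :
    ∀ y : H, orderOf y = 5 → IsConj b y := by
  have : Fact (Nat.Prime 5) := ⟨by norm_num⟩
  have hob : orderOf b = 5 := orderOf_eq_prime hb hb1
  have hoc : orderOf c = 5 := orderOf_eq_prime hc fun e => hcb 0 (by norm_num) (by rw [pow_zero, e])
  have hcm : ∀ (u : Subgroup.zpowers b) (v : Subgroup.zpowers c),
      Commute ((Subgroup.zpowers b).subtype u) ((Subgroup.zpowers c).subtype v) := by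
    rintro ⟨u, hu⟩ ⟨v, hv⟩
    obtain ⟨i, rfl⟩ := Subgroup.mem_zpowers_iff.1 hu
    obtain ⟨j, rfl⟩ := Subgroup.mem_zpowers_iff.1 hv
    exact (show Commute b c from hbc).zpow_zpow i j
  let f := MonoidHom.noncommCoprod (Subgroup.zpowers b).subtype (Subgroup.zpowers c).subtype hcm
  have hdisj : Subgroup.zpowers b ⊓ Subgroup.zpowers c = ⊥ := by
    rw [Subgroup.eq_bot_iff_forall]
    intro z hz
    obtain ⟨hzb, hzc⟩ := Subgroup.mem_inf.1 hz
    by_contra hz1
    obtain ⟨j, hj, hjz⟩ := exists_pow_lt hc hzc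
    have hoz : orderOf z = 5 := orderOf_eq_prime (by rw [← hjz, ← pow_mul, mul_comm, pow_mul, hc,
      one_pow]) hz1
    have hcz : c ∈ Subgroup.zpowers z := by
      rw [Subgroup.mem_zpowers_iff]
      have hz' : z ∈ Subgroup.zpowers c := hzc
      have hle : Subgroup.zpowers z ≤ Subgroup.zpowers c := Subgroup.zpowers_le.2 hz'
      have hfin : ((Subgroup.zpowers c : Subgroup H) : Set H).Finite := Set.toFinite _
      have heq : Subgroup.zpowers z = Subgroup.zpowers c :=
        Subgroup.eq_of_le_of_card_ge hle (by rw [Nat.card_zpowers, Nat.card_zpowers, hoz, hoc])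
      exact Subgroup.mem_zpowers_iff.1 (heq ▸ Subgroup.mem_zpowers c)
    obtain ⟨i, hi, hic⟩ := exists_pow_lt hb (Subgroup.zpowers_le.2 hzb hcz)
    exact hcb i hi hic
  have hinj : Function.Injective f := by
    refine (MonoidHom.noncommCoprod_injective _ _ _).2
      ⟨Subgroup.subtype_injective _, Subgroup.subtype_injective _, ?_⟩
    rw [Subgroup.range_subtype, Subgroup.range_subtype, disjoint_iff, hdisj]
  have hcard : Nat.card f.range = 5 ^ (Nat.card H).factorization 5 := by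
    rw [hfac, ← Nat.card_congr (MonoidHom.ofInjective hinj).toEquiv, Nat.card_prod,
      Nat.card_zpowers, Nat.card_zpowers, hob, hoc, pow_two]
  intro y hy
  have hyp : IsPGroup 5 (Subgroup.zpowers y) :=
    IsPGroup.of_card (n := 1) (by rw [Nat.card_zpowers, hy, pow_one])
  obtain ⟨Q, hQ⟩ := hyp.exists_le_sylow
  obtain ⟨g, hg⟩ := MulAction.exists_smul_eq H Q (Sylow.ofCard f.range hcard)
  have hmem : g * y * g⁻¹ ∈ f.range := by
    have h1 : g * y * g⁻¹ ∈ (g • Q : Sylow 5 H) := by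
      show g * y * g⁻¹ ∈ ((g • Q : Sylow 5 H) : Subgroup H)
      rw [Sylow.coe_subgroup_smul]
      exact Subgroup.mem_pointwise_smul_iff_inv_smul_mem.2 (by
        simpa [mul_assoc] using hQ (Subgroup.mem_zpowers y))
    rw [hg] at h1
    exact h1
  obtain ⟨⟨⟨u, hu⟩, ⟨v, hv⟩⟩, huv⟩ := hmem
  obtain ⟨i, hi, rfl⟩ := exists_pow_lt hb hu
  obtain ⟨j, hj, rfl⟩ := exists_pow_lt hc hv
  have huv' : b ^ i * c ^ j = g * y * g⁻¹ := huv
  have hne : ¬(i = 0 ∧ j = 0) := by
    rintro ⟨rfl, rfl⟩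
    rw [pow_zero, pow_zero, mul_one, eq_comm, conj_eq_one_iff] at huv'
    rw [huv', orderOf_one] at hy
    norm_num at hy
  exact (hconj i hi j hj hne).trans (huv' ▸ (isConj_iff.2 ⟨g, rfl⟩ : IsConj y (g * y * g⁻¹)).symm)

end abstract

variable (K : Type*) [Field K] [CharP K 2]

theorem W1_rep (w : List ℕ) : ∀ n, W1 K (rep w n) = W1 K w ^ n
  | 0 => by rw [rep, W1_nil, pow_zero]
  | n + 1 => by rw [rep, W1_append, W1_rep w n, pow_succ']

theorem W1_nW (k : Fin 4) : W1 K (nW k) = Schur.E6Two.nK k := by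
  fin_cases k <;>
    simp [nW, e6TwistWord, Schur.E6Two.nK, ChevCore.nS, nGL_prod, W1, CharTwo.neg_eq, mul_assoc]

variable [Fintype K] (hn : Fintype.card K = (2 ^ 1) * (2 ^ 1))
include hn

theorem long_mem {i : ℕ} (hi : Nat.blt i 72 = true) (hr : Nat.beq (Schur.E6Two.rho i) i = true) :
    (coreE6 K).xGL (Schur.E6Two.rt i) 1 ∈ twistedE6 K (2 ^ 1) := by
  obtain ⟨w, hw⟩ := Schur.E6Two.exists_omega (K := K) (by rw [hn]; norm_num)
  rw [← Schur.E6Two.gGL_fixed w (Nat.eq_of_beq_eq_true hr)]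
  exact Schur.E6Two.gGL_mem hw hn i (by simpa using hi)

theorem rootsW_mem {w : List ℕ} (h : ∀ i ∈ w, i ∈ bW ++ cgW ++ certs.flatMap fun e => e.2.2) :
    W1 K (rootsW w) ∈ twistedE6 K (2 ^ 1) := by
  refine Subgroup.list_prod_mem _ fun x hx => ?_
  simp only [rootsW, List.map_map, List.mem_map, Function.comp_apply] at hx
  obtain ⟨i, hi, rfl⟩ := hx
  have e := List.all_eq_true.1 long_ok i (h i hi)
  simp only [Bool.and_eq_true] at e
  exact long_mem K hn e.1 e.2

theorem bR_mem : W1 K bR ∈ twistedE6 K (2 ^ 1) :=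
  rootsW_mem K hn fun _ hi => List.mem_append_left _ (List.mem_append_left _ hi)

theorem cR_mem : W1 K cR ∈ twistedE6 K (2 ^ 1) := by
  have hg : W1 K (rootsW cgW) ∈ twistedE6 K (2 ^ 1) :=
    rootsW_mem K hn fun _ hi => List.mem_append_left _ (List.mem_append_right _ hi)
  rw [cR, W1_append, W1_append, ← inv_eq_of_mul_eq_one_right (W1_reverse K (rootsW cgW))]
  exact mul_mem (mul_mem hg (bR_mem K hn)) (inv_mem hg)

theorem kindW_mem (t : ℕ) : W1 K (kindW t) ∈ twistedE6 K (2 ^ 1) := by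
  unfold kindW
  split_ifs
  · rw [W1_nil]; exact one_mem _
  · rw [W1_nW]; exact Schur.E6Two.nK_mem 0
  · rw [W1_append, W1_nW, W1_nW]
    exact mul_mem (Schur.E6Two.nK_mem 0) (Schur.E6Two.nK_mem 1)

theorem factorization_five : (Nat.card ↥(twistedE6 K (2 ^ 1))).factorization 5 = 2 := by
  have h := card_twistedE6 K hn (by norm_num)
  have h25 : 5 ^ 2 ∣ 3 * Nat.card ↥(twistedE6 K (2 ^ 1)) := by
    rw [show (3 : ℕ) = Nat.gcd 3 (2 ^ 1 + 1) from by norm_num, h]
    norm_num
  have h125 : ¬ 5 ^ 3 ∣ 3 * Nat.card ↥(twistedE6 K (2 ^ 1)) := by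
    rw [show (3 : ℕ) = Nat.gcd 3 (2 ^ 1 + 1) from by norm_num, h]
    norm_num
  have hp : Nat.Prime 5 := by norm_num
  have h0 : Nat.card ↥(twistedE6 K (2 ^ 1)) ≠ 0 := fun e => h125 (by rw [e, mul_zero]; exact dvd_zero _)
  have h1 : 2 ≤ (Nat.card ↥(twistedE6 K (2 ^ 1))).factorization 5 :=
    (hp.pow_dvd_iff_le_factorization h0).1
      ((Nat.Coprime.dvd_of_dvd_mul_left (by norm_num) h25))
  have h2 : ¬ 3 ≤ (Nat.card ↥(twistedE6 K (2 ^ 1))).factorization 5 := fun e =>
    h125 (Dvd.dvd.mul_left ((hp.pow_dvd_iff_le_factorization h0).2 e) 3)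
  omega

/-- All elements of order five of ²E₆(2) are conjugate. -/
theorem one_class : ∀ x y : ↥(twistedE6 K (2 ^ 1)), orderOf x = 5 → orderOf y = 5 → IsConj x y := by
  set b : ↥(twistedE6 K (2 ^ 1)) := ⟨W1 K bR, bR_mem K hn⟩ with hbdef
  set c : ↥(twistedE6 K (2 ^ 1)) := ⟨W1 K cR, cR_mem K hn⟩ with hcdef
  have h := sub_ok
  simp only [subOK, Bool.and_eq_true, List.all_eq_true, List.mem_range, Bool.not_eq_true'] at h
  obtain ⟨⟨⟨⟨⟨⟨ub, uc⟩, hb5⟩, hc5⟩, hbc⟩, hb1⟩, hci⟩ := h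
  have urep : ∀ {w : List ℕ}, usedAll w = true → ∀ n, usedAll (rep w n) = true := by
    intro w hw n
    induction n with
    | zero => rfl
    | succ n ih =>
      rw [usedAll, List.all_eq_true] at hw ih ⊢
      intro r hr
      rcases List.mem_append.1 hr with hr | hr
      · exact hw r hr
      · exact ih r hr
  have uap : ∀ {v w : List ℕ}, usedAll v = true → usedAll w = true → usedAll (v ++ w) = true :=
    fun hv hw => by simp only [usedAll, List.all_append, Bool.and_eq_true] at *; exact ⟨hv, hw⟩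
  have key : ∀ y : ↥(twistedE6 K (2 ^ 1)), orderOf y = 5 → IsConj b y := by
    refine one_class_of b c ?_ ?_ ?_ ?_ ?_ (factorization_five K hn) ?_
    · refine Subtype.ext ?_
      show W1 K bR ^ 5 = 1
      rw [← W1_rep, ← W1_nil K]
      exact W1_eq K (urep ub 5) rfl ((Nat.eq_of_beq_eq_true hb5).trans rfl)
    · refine Subtype.ext ?_
      show W1 K cR ^ 5 = 1
      rw [← W1_rep, ← W1_nil K]
      exact W1_eq K (urep uc 5) rfl ((Nat.eq_of_beq_eq_true hc5).trans rfl)
    · refine Subtype.ext ?_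
      show W1 K bR * W1 K cR = W1 K cR * W1 K bR
      rw [← W1_append, ← W1_append]
      exact W1_eq K (uap ub uc) (uap uc ub) (Nat.eq_of_beq_eq_true hbc)
    · intro e
      refine W1_ne K ub (show usedAll [] = true from rfl) (Nat.ne_of_beq_eq_false hb1) ?_
      rw [W1_nil]
      exact congrArg Subtype.val e
    · intro i hi e
      refine W1_ne K (urep ub i) uc (Nat.ne_of_beq_eq_false (hci i hi)) ?_
      rw [W1_rep]
      exact congrArg Subtype.val e
    · intro i hi j hj hne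
      have hcov := cover_ok
      simp only [coverOK, List.all_eq_true, List.mem_range, Bool.or_eq_true, Bool.and_eq_true,
        List.any_eq_true, beq_iff_eq] at hcov
      obtain ⟨e, he, hij⟩ := (hcov i hi j hj).resolve_left hne
      have hok := cert_ok e he
      simp only [certOK, Bool.and_eq_true] at hok
      have heq := W1_eq K hok.1.1 hok.1.2 (Nat.eq_of_beq_eq_true hok.2)
      rw [lhsW, rhsW, hij] at heq
      simp only [W1_append, W1_rep] at heq
      have hg : W1 K (rootsW e.2.2) ∈ twistedE6 K (2 ^ 1) := rootsW_mem K hn fun r hr =>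
        List.mem_append_right _ (List.mem_flatMap.2 ⟨e, he, hr⟩)
      have hN := kindW_mem K hn e.2.1
      rw [← inv_eq_of_mul_eq_one_right (W1_reverse K (rootsW e.2.2))] at heq
      refine isConj_iff.2 ⟨(⟨_, hN⟩ : ↥(twistedE6 K (2 ^ 1)))⁻¹ * ⟨_, hg⟩, Subtype.ext ?_⟩
      show (W1 K (kindW e.2.1))⁻¹ * W1 K (rootsW e.2.2) * W1 K bR *
          ((W1 K (kindW e.2.1))⁻¹ * W1 K (rootsW e.2.2))⁻¹ = W1 K bR ^ i * W1 K cR ^ j
      rw [eq_comm, ← mul_right_inj (W1 K (kindW e.2.1)), heq]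
      group
  exact fun x y hx hy => (key x hx).symm.trans (key y hy)

end CfsgLib.TwistFive
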