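import Cfsg.Agent.Lib.TwistFive.WeylData
import Cfsg.Agent.Lib.Schur.E6Two.GroupGens

/-!
Every element of the twisted Weyl group of type ²E₆ is a word carrying the index 39 to its image,
times a word in three reflections fixing 39.
-/

set_option autoImplicit false
set_option maxRecDepth 100000

namespace CfsgLib.TwistFive

open Cfsg.Lie CfsgLib.ChevStr CfsgLib.Twisted
open CfsgLib.Schur.E6Two (refl rho rt rtF ng refl_check)
open scoped MatrixGroups

/-- The number of a twisted reflection. -/
def gen4 (k : ℕ) : Fin 4 := ⟨k % 4, Nat.mod_lt _ (by norm_num)⟩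

/-- A word of twisted reflections on the indices. -/
def wFun (L : List ℕ) (i : ℕ) : ℕ := L.foldr (fun k j => refl (gen4 k).val j) i

/-- A word of twisted reflections on the roots. -/
def permW (L : List ℕ) : Equiv.Perm (Fin chevE6.nroots) :=
  (L.map fun k => reflDataE6.wordPerm (e6TwistWord (gen4 k))).prod

/-- The palindromes of the three reflections. -/
def palW : ℕ → List ℕ
  | 0 => [3]
  | 1 => [2, 1, 2, 3, 2, 1, 2]
  | _ => [0, 1, 2, 1, 0]

/-- The word of an element fixing 39. -/
def hW (c : ℕ) : List ℕ := (hG.getD c []).flatMap palW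

/-- An entry of a table. -/
def look (T : List (List ℕ)) (a i : ℕ) : ℕ := (T.getD a []).getD i 0

/-- The images agree with the words. -/
def tablesOK : Bool :=
  ((List.range 48).all fun a => (List.range 72).all fun i =>
    Nat.beq (look tT a i) (wFun (tW.getD a []) i)) &&
  ((List.range 24).all fun c => (List.range 72).all fun i =>
    Nat.beq (look hT c i) (wFun (hW c) i))

theorem tables_ok : tablesOK = true := by decide +kernel

/-- The reflections permute the cosets, and the elements fixing 39 are closed under products. -/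
def closedOK : Bool :=
  ((List.range 48).all fun a => (List.range 4).all fun k =>
    let p := stepT.getD (4 * a + k) (0, 0)
    Nat.blt p.1 48 && Nat.blt p.2 24 &&
      (List.range 72).all fun i => Nat.beq (refl k (look tT a i)) (look tT p.1 (look hT p.2 i))) &&
  ((List.range 24).all fun c => (List.range 24).all fun d =>
    let m := multT.getD (24 * c + d) 0
    Nat.blt m 24 && (List.range 72).all fun i => Nat.beq (look hT c (look hT d i)) (look hT m i))

theorem closed_ok : closedOK = true := by decide +kernel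

/-- The identity and the fixed indices. -/
def baseOK : Bool :=
  ((List.range 72).all fun i => Nat.beq (look tT 0 i) i && Nat.beq (look hT 0 i) i) &&
  ((List.range 24).all fun c => [39, 37, 32, 34].all fun i => Nat.beq (look hT c i) i) &&
  ((List.range 48).all fun a => Nat.beq (look tT a 39) (tK.getD a 0))

theorem base_ok : baseOK = true := by decide +kernel

theorem rt_surj : ∀ r : Fin chevE6.nroots, ∃ i : Fin 72, rt i = r.val := by decide +kernel

theorem refl_lt {k i : ℕ} (hk : k < 4) (hi : i < 72) : refl k i < 72 := by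
  obtain ⟨h, -⟩ := refl_check ⟨k, hk⟩ ⟨i, hi⟩
  exact h

theorem wFun_lt : ∀ (L : List ℕ) {i : ℕ}, i < 72 → wFun L i < 72
  | [], _, hi => hi
  | k :: L, _, hi => refl_lt (gen4 k).isLt (wFun_lt L hi)

theorem wFun_append (L L' : List ℕ) (i : ℕ) : wFun (L ++ L') i = wFun L (wFun L' i) := by
  simp [wFun, List.foldr_append]

theorem permW_cons (k : ℕ) (L : List ℕ) :
    permW (k :: L) = reflDataE6.wordPerm (e6TwistWord (gen4 k)) * permW L := by simp [permW]

theorem permW_append (L L' : List ℕ) : permW (L ++ L') = permW L * permW L' := by simp [permW]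

theorem permW_rt : ∀ (L : List ℕ) (i : Fin 72),
    permW L (rtF i) = rtF ⟨wFun L i.val, wFun_lt L i.isLt⟩
  | [], i => rfl
  | k :: L, i => by
    rw [permW_cons, Equiv.Perm.mul_apply, permW_rt L i]
    obtain ⟨h, h', e⟩ := refl_check (gen4 k) ⟨wFun L i.val, wFun_lt L i.isLt⟩
    exact Fin.ext e

theorem perm_ext {u v : Equiv.Perm (Fin chevE6.nroots)} (h : ∀ i : Fin 72, u (rtF i) = v (rtF i)) :
    u = v := Equiv.ext fun r => by
  obtain ⟨i, hi⟩ := rt_surj r
  rw [show r = rtF i from Fin.ext hi.symm]
  exact h i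

theorem permW_tables {a c : ℕ} (ha : a < 48) (hc : c < 24) (i : ℕ) (hi : i < 72) :
    wFun (tW.getD a [] ++ hW c) i = look tT a (look hT c i) := by
  have h := tables_ok
  simp only [tablesOK, Bool.and_eq_true, List.all_eq_true, List.mem_range] at h
  have e1 := Nat.eq_of_beq_eq_true (h.2 c hc i hi)
  rw [wFun_append, ← e1]
  exact (Nat.eq_of_beq_eq_true (h.1 a ha _ (e1 ▸ wFun_lt _ hi))).symm

/-- The decomposition: a word carrying 39 to its image and a word fixing 39. -/
def IsCoset (w : Equiv.Perm (Fin chevE6.nroots)) : Prop :=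
  ∃ a < 48, ∃ c < 24, w = permW (tW.getD a [] ++ hW c)

theorem isCoset_mul {w : Equiv.Perm (Fin chevE6.nroots)} (hw : IsCoset w) (k : Fin 4) :
    IsCoset (reflDataE6.wordPerm (e6TwistWord k) * w) := by
  obtain ⟨a, ha, c, hc, rfl⟩ := hw
  have h := closed_ok
  simp only [closedOK, Bool.and_eq_true, List.all_eq_true, List.mem_range, Nat.blt_eq] at h
  obtain ⟨⟨h1, h2⟩, h3⟩ := h.1 a ha k.val k.isLt
  obtain ⟨h4, h5⟩ := h.2 _ h2 c hc
  refine ⟨_, h1, _, h4, perm_ext fun i => ?_⟩
  have hk : gen4 k.val = k := Fin.ext (Nat.mod_eq_of_lt k.isLt)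
  rw [show reflDataE6.wordPerm (e6TwistWord k) * permW (tW.getD a [] ++ hW c) =
      permW (k.val :: (tW.getD a [] ++ hW c)) by rw [permW_cons, hk],
    permW_rt, permW_rt]
  refine Fin.ext (congrArg rt ?_)
  show refl (gen4 k.val).val (wFun (tW.getD a [] ++ hW c) i.val) = _
  dsimp only
  rw [hk, permW_tables ha hc _ i.isLt, permW_tables h1 h4 _ i.isLt]
  have hlt : look hT c i.val < 72 := by
    have ht := tables_ok
    simp only [tablesOK, Bool.and_eq_true, List.all_eq_true, List.mem_range] at ht
    rw [Nat.eq_of_beq_eq_true (ht.2 c hc i.val i.isLt)]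
    exact wFun_lt _ i.isLt
  rw [Nat.eq_of_beq_eq_true (h3 _ hlt), Nat.eq_of_beq_eq_true (h5 _ i.isLt)]

theorem isCoset_one : IsCoset 1 := by
  refine ⟨0, by norm_num, 0, by norm_num, perm_ext fun i => ?_⟩
  have h := base_ok
  simp only [baseOK, Bool.and_eq_true, List.all_eq_true, List.mem_range] at h
  have e := h.1.1 i.val i.isLt
  rw [permW_rt, Equiv.Perm.one_apply]
  refine Fin.ext (congrArg rt ?_)
  show i.val = wFun (tW.getD 0 [] ++ hW 0) i.val
  rw [permW_tables (by norm_num) (by norm_num) _ i.isLt, Nat.eq_of_beq_eq_true e.2,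
    Nat.eq_of_beq_eq_true e.1]

/-- Every twisted Weyl element is in a coset. -/
theorem twist_isCoset (K : Type*) [Field K] [CharP K 2] [Fintype K]
    (hn : Fintype.card K = (2 ^ 1) * (2 ^ 1)) {w : Equiv.Perm (Fin chevE6.nroots)}
    (hw : w ∈ (coreE6 K).hR.weyl) (hc : Commute (frobE6 K 2 1).ρ w) : IsCoset w := by
  have g := gensE6 K hn (by norm_num)
  suffices key : ∀ n : ℕ, ∀ v, v ∈ (coreE6 K).hR.weyl → Commute (frobE6 K 2 1).ρ v →
      ((coreE6 K).hR.invSet v).card = n → IsCoset v⁻¹ by
    have h := key _ _ (inv_mem hw) hc.inv_right rfl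
    rwa [inv_inv] at h
  intro n
  induction n using Nat.strong_induction_on with
  | _ n ih =>
    intro v hv hcv hn'
    by_cases h0 : (coreE6 K).hR.invSet v = ∅
    · rw [(coreE6 K).hR.eq_one_of_invSet_eq_empty hv h0, inv_one]
      exact isCoset_one
    obtain ⟨i, hi⟩ := Gens.exists_orbit_neg (O := orbE6) hv hcv h0
    obtain ⟨hcard, hpos⟩ := g.all_neg_descent hv i hi
    have h1 := ih _ (by omega) (v * g.wJ i)
      (mul_mem hv ((coreE6 K).hR.weylSub_le _ (g.wJ_mem i))) (hcv.mul_right (g.wJ_commute i)) rfl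
    have hu : reflDataE6.wordPerm (e6TwistWord i) = g.wJ i := by
      have hsub : reflDataE6.wordPerm (e6TwistWord i) ∈ (coreE6 K).hR.weylSub (nodesE6 i) := by
        refine Subgroup.list_prod_mem _ fun x hx => ?_
        obtain ⟨j, hj, rfl⟩ := List.mem_map.1 hx
        exact (coreE6 K).hR.sPerm_mem_sub (e6_word_mem i j hj)
      have e1 := mul_eq_one_of_neg (coreE6 K).hR hsub (e6_word_neg i) (g.wJ_mem i) (g.wJ_neg i)
      exact mul_right_cancel (e1.trans (g.wJ_mul_self i).symm)
    have h2 := isCoset_mul h1 i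
    rw [hu, _root_.mul_inv_rev, ← mul_assoc,
      inv_eq_of_mul_eq_one_right (g.wJ_mul_self i), g.wJ_mul_self i, one_mul] at h2
    exact h2

theorem hW_fix {c : ℕ} (hc : c < 24) {i : ℕ} (hi : i ∈ [39, 37, 32, 34]) :
    look hT c i = i := by
  have h := base_ok
  simp only [baseOK, Bool.and_eq_true, List.all_eq_true, List.mem_range] at h
  exact Nat.eq_of_beq_eq_true (h.1.2 c hc i hi)

theorem tW_39 {a : ℕ} (ha : a < 48) : look tT a 39 = tK.getD a 0 := by
  have h := base_ok
  simp only [baseOK, Bool.and_eq_true, List.all_eq_true, List.mem_range] at h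
  exact Nat.eq_of_beq_eq_true (h.2 a ha)

end CfsgLib.TwistFive
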