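import Cfsg.Agent.Lib.TwistFive.OneClass
import Cfsg.Agent.Lib.TwistFive.Alt
import Cfsg.Agent.Lib.TwistFive.Weyl

/-!
The parts of the parabolic subgroup of ²E₆(2) of type `{p₃, p₅}`: its monomial elements, its torus
and the shapes of their matrices of degree two.
-/

set_option autoImplicit false
set_option maxRecDepth 100000

namespace CfsgLib.TwistFive

open Cfsg.Lie CfsgLib.ChevStr CfsgLib.Twisted
open CfsgLib.Schur.E6Two (rt rho rtF refl gGL gGL_fixed gGL_pair gGL_mem nK)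
open scoped MatrixGroups

variable {K : Type*} [Field K]

/-! ### Monomial words -/

/-- The product of the representatives of a word of twisted reflections. -/
noncomputable def NW (L : List ℕ) : GL chevE6.Idx K := (L.map fun k => nK (gen4 k)).prod

theorem NW_nil : (NW [] : GL chevE6.Idx K) = 1 := rfl

theorem NW_append (L L' : List ℕ) : (NW (L ++ L') : GL chevE6.Idx K) = NW L * NW L' := by
  simp [NW]

theorem NW_cons (k : ℕ) (L : List ℕ) : (NW (k :: L) : GL chevE6.Idx K) = nK (gen4 k) * NW L := by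
  simp [NW]

theorem NW_acts : ∀ L : List ℕ, (coreE6 K).Acts (NW L) (permW L)
  | [] => (coreE6 K).acts_one
  | k :: L => by
    rw [NW_cons, permW_cons]
    exact ChevCore.Acts.mul (coreE6 K) (Schur.E6Two.acts_nK (gen4 k)) (NW_acts L)

theorem NW_moves (L : List ℕ) : (coreE6 K).Moves (NW L) (permW L) :=
  ChevCore.Acts.moves (coreE6 K) (NW_acts L)

theorem nK_mono (k : Fin 4) : (nK k : GL chevE6.Idx K) ∈ chevE6.monomialSubgroup K := by
  refine Subgroup.list_prod_mem _ fun x hx => ?_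
  obtain ⟨i, -, rfl⟩ := List.mem_map.1 hx
  exact (coreE6 K).nS_mem_monomial i

theorem NW_mono (L : List ℕ) : (NW L : GL chevE6.Idx K) ∈ chevE6.monomialSubgroup K := by
  refine Subgroup.list_prod_mem _ fun x hx => ?_
  obtain ⟨i, -, rfl⟩ := List.mem_map.1 hx
  exact nK_mono _

variable [CharP K 2]

theorem NW_mem (L : List ℕ) : (NW L : GL chevE6.Idx K) ∈ twistedE6 K (2 ^ 1) := by
  refine Subgroup.list_prod_mem _ fun x hx => ?_
  obtain ⟨i, -, rfl⟩ := List.mem_map.1 hx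
  exact Schur.E6Two.nK_mem _

theorem NW_gGL (w : K) : ∀ (L : List ℕ) {i : ℕ}, i < 72 →
    NW L * gGL w i * (NW L)⁻¹ = gGL w (wFun L i)
  | [], i, _ => by rw [NW_nil, one_mul, inv_one, mul_one]; rfl
  | k :: L, i, hi => by
    rw [show wFun (k :: L) i = refl (gen4 k).val (wFun L i) from rfl,
      ← Schur.E6Two.conj_refl w (gen4 k) (wFun_lt L hi), ← NW_gGL w L hi, NW_cons]
    group

theorem sq_used : ∀ k : Fin 4, usedAll (nW k ++ nW k) = true := by decide +kernel

theorem sq_code : ∀ k : Fin 4, Nat.beq (wordC (nW k ++ nW k)) (wordC []) = true := by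
  decide +kernel

theorem nK_sq (k : Fin 4) : (nK k : GL chevE6.Idx K) * nK k = 1 := by
  rw [← W1_nW, ← W1_append, W1_eq K (sq_used k) (show usedAll [] = true from rfl)
    (Nat.eq_of_beq_eq_true (sq_code k)), W1_nil]

theorem NW_reverse : ∀ L : List ℕ, (NW L : GL chevE6.Idx K) * NW L.reverse = 1
  | [] => mul_one 1
  | k :: L => by
    rw [List.reverse_cons, NW_append, NW_cons, NW_cons, NW_nil, mul_one,
      show nK (gen4 k) * NW L * (NW L.reverse * nK (gen4 k)) =
        nK (gen4 k) * (NW L * NW L.reverse) * (nK (gen4 k) : GL chevE6.Idx K) by group,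
      NW_reverse L, mul_one, nK_sq]

/-- The halves and the centres of the palindromes. -/
def palSplit : ℕ → List ℕ × ℕ
  | 0 => ([], 3)
  | 1 => ([2, 1, 2], 3)
  | _ => ([0, 1], 2)

theorem palW_eq : ∀ j, palW j = (palSplit j).1 ++ [(palSplit j).2] ++ (palSplit j).1.reverse
  | 0 => rfl
  | 1 => rfl
  | _ + 2 => rfl

theorem pal_roots : ∀ j : Fin 3, ∀ r ∈ nW (gen4 (palSplit j.val).2), ∃ h : r < chevE6.nroots,
    ∃ a b : Fin 4, a ≠ b ∧ ((permW (palSplit j.val).1 ⟨r, h⟩ : Fin chevE6.nroots) : ℕ) = eRoot a b := by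
  decide +kernel

theorem palW_mem (j : ℕ) : (NW (palW j) : GL chevE6.Idx K) ∈ aGroup K := by
  obtain ⟨i, hi1, hi2⟩ : ∃ i : Fin 3, palW j = palW i.val ∧ palSplit j = palSplit i.val := by
    rcases j with - | - | j
    · exact ⟨0, rfl, rfl⟩
    · exact ⟨1, rfl, rfl⟩
    · exact ⟨2, rfl, rfl⟩
  rw [hi1, palW_eq, NW_append, NW_append]
  set u := (palSplit i.val).1 with hu
  set k := (palSplit i.val).2 with hk
  rw [← inv_eq_of_mul_eq_one_right (NW_reverse (K := K) u), NW_cons, NW_nil, mul_one, ← W1_nW]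
  show MulAut.conj (NW u) ((List.map _ (nW (gen4 k))).prod) ∈ aGroup K
  rw [map_list_prod]
  refine Subgroup.list_prod_mem _ fun x hx => ?_
  simp only [List.map_map, List.mem_map, Function.comp_apply] at hx
  obtain ⟨r, hr, rfl⟩ := hx
  obtain ⟨h, a, b, hab, e⟩ := pal_roots i r hr
  show NW u * (coreE6 K).xGL r 1 * (NW u)⁻¹ ∈ aGroup K
  rw [show r = ((⟨r, h⟩ : Fin chevE6.nroots) : ℕ) from rfl, Schur.E6Two.conj_x (NW_acts u), e]
  exact x_mem_aGroup K hab

theorem hW_mem (c : ℕ) : (NW (hW c) : GL chevE6.Idx K) ∈ aGroup K := by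
  unfold hW
  induction hG.getD c [] with
  | nil => exact one_mem _
  | cons j L ih =>
    rw [List.flatMap_cons, NW_append]
    exact mul_mem (palW_mem j) ih

/-! ### The element of order five and its matrix -/

theorem levi_rt : rt 39 = 42 ∧ rt (rho 39) = 37 ∧ rt 32 = 29 ∧ rt (rho 32) = 34 ∧ rho 39 ≠ 39 ∧
    rho 32 ≠ 32 ∧ rt 37 = 37 ∧ rt (rho 37) = 42 ∧ rt 34 = 34 ∧ rt (rho 34) = 29 ∧ rho 37 ≠ 37 ∧
    rho 34 ≠ 34 := by decide +kernel

theorem levi_comm : chevE6.commTerms 42 37 = [] ∧ chevE6.commTerms 29 34 = [] ∧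
    37 ≠ chevE6.neg 42 ∧ 34 ≠ chevE6.neg 29 := by decide +kernel

omit [CharP K 2] in
theorem xEl_gGL (w : K) : gGL w 39 * gGL w 32 = xEl w := by
  obtain ⟨e1, e2, e3, e4, n1, n2, -⟩ := levi_rt
  rw [gGL_pair w n1, gGL_pair w n2, e1, e2, e3, e4]
  rfl

theorem xEl_swap (w : K) : gGL w 37 * gGL w 34 = xEl (w + 1) := by
  obtain ⟨-, -, -, -, -, -, e1, e2, e3, e4, n1, n2⟩ := levi_rt
  obtain ⟨c1, c2, m1, m2⟩ := levi_comm
  have e : w + 1 + 1 = w := by rw [add_assoc, CharTwo.add_self_eq_zero, add_zero]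
  rw [gGL_pair w n1, gGL_pair w n2, e1, e2, e3, e4, xEl, e,
    (coreE6 K).xGL_commute (by decide : 42 < chevE6.nroots) (by decide) (by decide) m1 (by simp [c1]) (w + 1) w,
    (coreE6 K).xGL_commute (by decide : 29 < chevE6.nroots) (by decide) (by decide) m2 (by simp [c2]) (w + 1) w]

omit [CharP K 2] in
theorem xEl_mem_par (w : K) : xEl w ∈ par K :=
  mul_mem (mul_mem (xGL_mem_par (nnR_levi 42 (by simp)) _) (xGL_mem_par (nnR_levi 37 (by simp)) _))
    (mul_mem (xGL_mem_par (nnR_levi 29 (by simp)) _) (xGL_mem_par (nnR_levi 34 (by simp)) _))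

/-- The elements of the parabolic with trivial matrix. -/
def kerM (K : Type*) [Field K] : Subgroup (GL chevE6.Idx K) where
  carrier := {g | g ∈ par K ∧ Mrep g = 1}
  one_mem' := ⟨one_mem _, Mrep_one⟩
  mul_mem' {g h} hg hh := ⟨mul_mem hg.1 hh.1, by rw [Mrep_mul hg.1 hh.1, hg.2, hh.2, one_mul]⟩
  inv_mem' {g} hg := ⟨inv_mem hg.1, by
    have h := Mrep_mul hg.1 (inv_mem hg.1)
    rwa [mul_inv_cancel, Mrep_one, hg.2, one_mul, eq_comm] at h⟩

theorem Mrep_inv_mul {g : GL chevE6.Idx K} (hg : g ∈ par K) : Mrep g⁻¹ * Mrep g = 1 := by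
  rw [← Mrep_mul (inv_mem hg) hg, inv_mul_cancel, Mrep_one]

theorem Mrep_pow {g : GL chevE6.Idx K} (hg : g ∈ par K) : ∀ n : ℕ, Mrep (g ^ n) = Mrep g ^ n
  | 0 => by rw [pow_zero, pow_zero, Mrep_one]
  | n + 1 => by rw [pow_succ, pow_succ, Mrep_mul (pow_mem hg n) hg, Mrep_pow hg n]

omit [CharP K 2] in
theorem radU_le_kerM : (coreE6 K).Ucl (radS 1) ≤ kerM K := by
  refine (coreE6 K).Ucl_le fun r hr t => ⟨Ucl_radS_le_par 1 ((coreE6 K).xGL_mem_Ucl hr t), ?_⟩
  refine Mrep_x ?_ ?_ t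
  · rintro rfl
    have h : outC (al 42) = 0 := by simp only [outC_apply]; decide +kernel
    have := hr.2.2
    omega
  · rintro rfl
    exact (show ¬ chevE6.IsPosRoot 29 by decide +kernel) hr.1

theorem Mrep_L (t u : K) :
    Mrep ((coreE6 K).xGL 42 t * (coreE6 K).xGL 37 u) = !![1, 0; t, 1] := by
  rw [Mrep_mul (xGL_mem_par (nnR_levi 42 (by simp)) _) (xGL_mem_par (nnR_levi 37 (by simp)) _),
    Mrep_x42, Mrep_x (by decide) (by decide), mul_one]

theorem Mrep_xEl (w : K) : Mrep (xEl w) = !![1, w; w, w * w + 1] := by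
  have hp : ∀ r ∈ [42, 37, 29, 34], ∀ t : K, (coreE6 K).xGL r t ∈ par K := fun r hr t =>
    xGL_mem_par (nnR_levi r hr) t
  rw [xEl, Mrep_mul (mul_mem (hp 42 (by simp) _) (hp 37 (by simp) _))
      (mul_mem (hp 29 (by simp) _) (hp 34 (by simp) _)), Mrep_L,
    Mrep_mul (hp 29 (by simp) _) (hp 34 (by simp) _), Mrep_x29,
    Mrep_x (by decide) (by decide), mul_one, Matrix.mul_fin_two]
  ext i j
  fin_cases i <;> fin_cases j <;> simp

theorem nW_one : nW 1 = [42, 29, 42, 37, 34, 37] := by decide +kernel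

theorem s_mem_par : (nK 1 : GL chevE6.Idx K) ∈ par K := by
  rw [← W1_nW, nW_one]
  refine Subgroup.list_prod_mem _ fun x hx => ?_
  obtain ⟨r, hr, rfl⟩ := List.mem_map.1 hx
  refine xGL_mem_par (nnR_levi r ?_) 1
  clear hx
  revert hr r
  decide

theorem Mrep_s : Mrep (nK 1 : GL chevE6.Idx K) = !![0, 1; 1, 0] := by
  have hp : ∀ r ∈ [42, 37, 29, 34], ∀ t : K, (coreE6 K).xGL r t ∈ par K := fun r hr t =>
    xGL_mem_par (nnR_levi r hr) t
  have h : (nK 1 : GL chevE6.Idx K) = (coreE6 K).xGL 42 1 * ((coreE6 K).xGL 29 1 *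
      ((coreE6 K).xGL 42 1 * ((coreE6 K).xGL 37 1 * ((coreE6 K).xGL 34 1 *
        ((coreE6 K).xGL 37 1 * 1))))) := by
    rw [← W1_nW, nW_one]
    rfl
  have p1 := hp 42 (by simp) 1
  have p2 := hp 29 (by simp) 1
  have p3 := hp 37 (by simp) 1
  have p4 := hp 34 (by simp) 1
  have p5 := mul_mem p3 (mul_mem p4 p3)
  rw [h, mul_one, Mrep_mul p1 (mul_mem p2 (mul_mem p1 p5)), Mrep_mul p2 (mul_mem p1 p5),
    Mrep_mul p1 p5, Mrep_mul p3 (mul_mem p4 p3), Mrep_mul p4 p3, Mrep_x42, Mrep_x29,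
    Mrep_x (by decide) (by decide), Mrep_x (by decide) (by decide)]
  simp only [mul_one, Matrix.mul_fin_two]
  ext i j
  fin_cases i <;> fin_cases j <;> simp [CharTwo.add_self_eq_zero]

/-! ### The field of four elements -/

variable [Fintype K] (hn : Fintype.card K = (2 ^ 1) * (2 ^ 1))
include hn

omit [CharP K 2] in
theorem units_cube (u : Kˣ) : u ^ 3 = 1 := by
  classical
  have h := pow_card_eq_one (x := u)
  rwa [Fintype.card_units, hn] at h

theorem f4_cases {w : K} (hw : w * w = w + 1) (a : K) :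
    a = 0 ∨ a = 1 ∨ a = w ∨ a = w + 1 := by
  have h4 : a ^ 4 = a := by
    have := FiniteField.pow_card a
    rwa [hn] at this
  have two : (2 : K) = 0 := CharTwo.two_eq_zero
  have h : a * (a + 1) * ((a + w) * (a + (w + 1))) = 0 := by
    linear_combination h4 + a * (a + 1) * hw + (a ^ 3 * w + a ^ 3 + 2 * a ^ 2 * w + a * w +
      a ^ 2 + a) * two
  rcases mul_eq_zero.1 h with h | h <;> rcases mul_eq_zero.1 h with h | h
  · exact Or.inl h
  · exact Or.inr (Or.inl (CharTwo.add_eq_zero.1 h))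
  · exact Or.inr (Or.inr (Or.inl (CharTwo.add_eq_zero.1 h)))
  · exact Or.inr (Or.inr (Or.inr (CharTwo.add_eq_zero.1 h)))

/-! ### The torus -/

omit hn [Fintype K] in
theorem actX {r : ℕ} (hr : r < chevE6.nroots) (t : K) :
    (frobE6 K 2 1).act ((coreE6 K).xGL r t) = (coreE6 K).xGL (e6Sym.root r) (t * t) := by
  rw [(frobE6 K 2 1).act_word (root := e6Sym.root) (fun _ => rfl) hr]
  show (coreE6 K).xGL (e6Sym.root r) ((e6Sym.sign r : K) * t ^ 2 ^ 1) = _
  rw [cast_pm (Schur.E6Two.root_data r hr).1, one_mul, pow_one, sq]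

theorem act_of_mem {g : GL chevE6.Idx K} (hg : g ∈ twistedE6 K (2 ^ 1)) :
    g ∈ chevE6.group K ∧ (frobE6 K 2 1).act g = g :=
  (gensE6 K hn (by norm_num)).le_fixed hg

theorem char_rho {c : Fin chevE6.rank → Kˣ} (hc : (coreE6 K).R.torus c ∈ twistedE6 K (2 ^ 1))
    {r : ℕ} (hr : r < chevE6.nroots) :
    (coreE6 K).R.torusChar c (al (e6Sym.root r)) =
      (coreE6 K).R.torusChar c (al r) * (coreE6 K).R.torusChar c (al r) := by
  obtain ⟨hG, hfix⟩ := act_of_mem hn hc
  have hr' := (Schur.E6Two.root_data r hr).2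
  set d := (coreE6 K).R.torus c
  have conj : ∀ {s : ℕ}, s < chevE6.nroots → ∀ t : K, d * (coreE6 K).xGL s t * d⁻¹ =
      (coreE6 K).xGL s (((coreE6 K).R.torusChar c (al s) : K) * t) := fun hs t =>
    (coreE6 K).acts_torus c ⟨_, hs⟩ t
  have e := congrArg (frobE6 K 2 1).act (conj hr 1)
  have hx : ∀ (s : ℕ) (t : K), (coreE6 K).xGL s t ∈ chevE6.group K := fun s t =>
    (coreE6 K).xGL_mem_group s t
  rw [(frobE6 K 2 1).act_mul (mul_mem hG (hx _ _)) (inv_mem hG),
    (frobE6 K 2 1).act_mul hG (hx _ _), (frobE6 K 2 1).act_inv hG, hfix, actX hr, mul_one,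
    conj hr', mul_one, actX hr, mul_one] at e
  have h0 : (coreE6 K).xGL (e6Sym.root r) (((coreE6 K).R.torusChar c (al (e6Sym.root r)) : K) +
      ((coreE6 K).R.torusChar c (al r) : K) * ((coreE6 K).R.torusChar c (al r) : K)) = 1 := by
    rw [(coreE6 K).xGL_add, e, ← (coreE6 K).xGL_add, CharTwo.add_self_eq_zero, (coreE6 K).xGL_zero]
  refine Units.ext ?_
  rw [Units.val_mul]
  exact CharTwo.add_eq_zero.1 (((coreE6 K).xGL_eq_one_iff hr').1 h0)

omit hn [Fintype K] [CharP K 2] in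
theorem torus_facts : (∀ i : Fin chevE6.rank,
      chevE6.simple i.val = [56, 46, 42, 39, 37, 36].getD i.val 0) ∧
    e6Sym.root 46 = 46 ∧ e6Sym.root 39 = 39 ∧ e6Sym.root 42 = 37 ∧ e6Sym.root 56 = 36 ∧
    (∀ k : Fin chevE6.rank, (3 : ℤ) ∣ pairing (fun j => chevE6.cartan k.val (chevE6.simple j.val))
      (al 56 + (al 42 + al 42) + al 37 + (al 36 + al 36))) := by
  decide +kernel

/-- A torus element of the group has the matrix `diag (z, z²)`, and is trivial if `z = 1`. -/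
theorem diag_fixed {d : GL chevE6.Idx K} (hd : d ∈ chevE6.diagonalSubgroup K)
    (hdG : d ∈ twistedE6 K (2 ^ 1)) :
    ∃ z : K, z ^ 3 = 1 ∧ Mrep d = !![z, 0; 0, z * z] ∧ (z = 1 → d = 1) := by
  rw [(coreE6 K).diagonalSubgroup_eq] at hd
  obtain ⟨c, rfl⟩ := hd
  obtain ⟨hs, r46, r39, r42, r56, hdiv⟩ := torus_facts
  set χ := fun r : ℕ => (coreE6 K).R.torusChar c (al r) with hχ
  have f : ∀ {r : ℕ}, r < chevE6.nroots → χ (e6Sym.root r) = χ r * χ r := fun hr =>
    char_rho hn hdG hr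
  have h46 : χ 46 = 1 := by
    have := f (r := 46) (by decide)
    rw [r46] at this
    exact mul_eq_left.1 this.symm
  have h39 : χ 39 = 1 := by
    have := f (r := 39) (by decide)
    rw [r39] at this
    exact mul_eq_left.1 this.symm
  have h37 : χ 37 = χ 42 * χ 42 := r42 ▸ f (r := 42) (by decide)
  have h36 : χ 36 = χ 56 * χ 56 := r56 ▸ f (r := 56) (by decide)
  have hrel : χ 56 * (χ 42 * χ 42) * χ 37 * (χ 36 * χ 36) = 1 := by
    simp only [hχ, ← (coreE6 K).R.torusChar_add]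
    refine Finset.prod_eq_one fun k _ => ?_
    obtain ⟨m, hm⟩ := hdiv k
    rw [hm, zpow_mul, show c k ^ (3 : ℤ) = 1 by exact_mod_cast units_cube hn (c k), one_zpow]
  have h42 : χ 42 = χ 56 := by
    have h : χ 42 ^ 3 * χ 56 ^ 3 * (χ 56 * χ 56 * χ 42) = 1 := by
      rw [h37, h36] at hrel
      refine Eq.trans ?_ hrel
      simp only [pow_succ, pow_zero, one_mul]
      ac_rfl
    rw [units_cube hn, units_cube hn, one_mul, one_mul] at h
    calc χ 42 = χ 56 * χ 56 * χ 56 * χ 42 := by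
          rw [show χ 56 * χ 56 * χ 56 = χ 56 ^ 3 by rw [pow_succ, pow_two], units_cube hn, one_mul]
      _ = χ 56 * (χ 56 * χ 56 * χ 42) := by ac_rfl
      _ = χ 56 := by rw [h, mul_one]
  have h57 : χ 57 = χ 56 * χ 56 := by
    have e : al 57 = al 56 + al 42 := sub_eq_iff_eq_add'.1 rr_diff.1
    calc χ 57 = χ 56 * χ 42 := by simp only [hχ, e, (coreE6 K).R.torusChar_add]
      _ = _ := by rw [h42]
  refine ⟨(χ 56 : K), by rw [← Units.val_pow_eq_pow_val, units_cube hn, Units.val_one], ?_, ?_⟩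
  · rw [Mrep_torus]
    ext i j
    fin_cases i <;> fin_cases j
    · rfl
    · rfl
    · rfl
    · show ((χ 57 : Kˣ) : K) = _
      rw [h57, Units.val_mul]
      rfl
  · intro hz
    have hz' : χ 56 = 1 := Units.ext hz
    refine ((coreE6 K).torus_eq_one_iff c).2 (funext fun i => ?_)
    have e : monMap (fun i j => chevE6.cartan j.val (chevE6.simple i.val)) c i =
        χ (chevE6.simple i.val) := by
      simp only [hχ]
      rw [show al (chevE6.simple i.val) = (coreE6 K).R.α (chevE6.simple i.val) from rfl,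
        (coreE6 K).R.torusChar_root c ((coreE6 K).R.simple_lt i)]
      rfl
    rw [e, hs i]
    fin_cases i
    · exact hz'
    · exact h46
    · exact h42.trans hz'
    · exact h39
    · exact h37.trans (by rw [h42, hz', one_mul])
    · exact h36.trans (by rw [hz', one_mul])

end CfsgLib.TwistFive
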