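import Cfsg.Agent.Lib.TwistFive.ClassData
import Cfsg.Agent.Lib.Twisted.TypeE6

/-!
Words in the root elements `x_r(1)` of type E₆ over a field of characteristic two, and their codes
over the field with two elements.
-/

set_option autoImplicit false
set_option maxRecDepth 100000

namespace CfsgLib.TwistFive

open Cfsg.Lie CfsgLib.ChevStr CfsgLib.Twisted

/-- The product of the root elements `x_r(1)` of a word. -/
noncomputable def W1 (F : Type*) [Field F] (w : List ℕ) : GL chevE6.Idx F :=
  (w.map fun r => (coreE6 F).xGL r 1).prod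

theorem W1_nil (F : Type*) [Field F] : W1 F [] = 1 := rfl

theorem W1_cons (F : Type*) [Field F] (r : ℕ) (w : List ℕ) :
    W1 F (r :: w) = (coreE6 F).xGL r 1 * W1 F w := by simp [W1]

theorem W1_append (F : Type*) [Field F] (v w : List ℕ) : W1 F (v ++ w) = W1 F v * W1 F w := by
  simp [W1]

theorem xGL_one_sq (F : Type*) [Field F] [CharP F 2] (r : ℕ) :
    (coreE6 F).xGL r 1 * (coreE6 F).xGL r 1 = 1 := by
  rw [← (coreE6 F).xGL_add, CharTwo.add_self_eq_zero, (coreE6 F).xGL_zero]

theorem W1_reverse (F : Type*) [Field F] [CharP F 2] : ∀ w : List ℕ, W1 F w * W1 F w.reverse = 1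
  | [] => by simp [W1_nil]
  | r :: w => by
    rw [List.reverse_cons, W1_append, W1_cons F r w, W1_cons F r [], W1_nil, mul_one,
      mul_assoc, ← mul_assoc (W1 F w), W1_reverse F w, one_mul, xGL_one_sq]

/-- An entry of a root element. -/
def xEnt (r : Fin 72) : Fin 6 ⊕ Fin 72 → Fin 6 ⊕ Fin 72 → ℤ := fun row col =>
  match col with
  | Sum.inl i =>
    (match row with
     | Sum.inl i' => if i' = i then 1 else 0
     | Sum.inr u => if u = r then -((chevE6.cartanSR.getD i.val #[]).getD r.val 0) else 0)
  | Sum.inr s =>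
    if s = r then (match row with | Sum.inr u => if u = r then 1 else 0 | Sum.inl _ => 0)
    else if s.val = chevE6.negIdx.getD r.val 0 then
      (match row with
       | Sum.inl i => (chevE6.coroot.getD r.val #[]).getD i.val 0
       | Sum.inr u => if u = s then 1 else if u = r then -1 else 0)
    else
      (match row with
       | Sum.inl _ => 0
       | Sum.inr u => (if u = s then 1 else 0) +
           ((chevE6.chainCoeff r.val s.val u.val).map fun km => km.2).sum)

theorem xMat_eq (F : Type*) [Field F] (r : Fin 72) (a b : Fin 6 ⊕ Fin 72) :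
    chevE6.xMat F r 1 a b = (xEnt r a b : F) := by
  unfold ChevalleyDatum.xMat
  unfold xEnt
  rcases a with a | a <;> rcases b with b | b <;>
    dsimp only [Matrix.of, Equiv.refl, DFunLike.coe, EquivLike.coe, Equiv.coe_fn_mk, id] <;>
    simp only [apply_ite (fun z : ℤ => (z : F)), Int.cast_add, Int.cast_neg, Int.cast_one,
      Int.cast_zero, Int.cast_list_sum, List.map_map, Function.comp_def, one_pow, mul_one] <;>
    rfl

/-- The change of the field of coefficients. -/
noncomputable def toK (K : Type*) [Field K] [CharP K 2] :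
    GL chevE6.Idx (ZMod 2) →* GL chevE6.Idx K :=
  Matrix.GeneralLinearGroup.map (ZMod.castHom dvd_rfl K)

theorem toK_x (K : Type*) [Field K] [CharP K 2] (r : ℕ) :
    toK K ((coreE6 (ZMod 2)).xGL r 1) = (coreE6 K).xGL r 1 := by
  by_cases hr : r < chevE6.nroots
  · refine Units.ext (Matrix.ext fun a b => ?_)
    show (ZMod.castHom dvd_rfl K) (((coreE6 (ZMod 2)).xGL r 1 : Matrix chevE6.Idx chevE6.Idx _) a b) =
      ((coreE6 K).xGL r 1 : Matrix chevE6.Idx chevE6.Idx K) a b
    rw [(coreE6 (ZMod 2)).coe_xGL, (coreE6 K).coe_xGL, ChevalleyDatum.x, ChevalleyDatum.x,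
      dif_pos hr, dif_pos hr]
    refine (congrArg _ (xMat_eq (ZMod 2) ⟨r, hr⟩ a b)).trans ?_
    rw [map_intCast]
    exact (xMat_eq K ⟨r, hr⟩ a b).symm
  · rw [(coreE6 (ZMod 2)).xGL_of_le (not_lt.1 hr), (coreE6 K).xGL_of_le (not_lt.1 hr), map_one]

theorem toK_W1 (K : Type*) [Field K] [CharP K 2] (w : List ℕ) :
    toK K (W1 (ZMod 2) w) = W1 K w := by
  rw [W1, W1, map_list_prod, List.map_map]
  exact congrArg List.prod (List.map_congr_left fun r _ => toK_x K r)

theorem toK_injective (K : Type*) [Field K] [CharP K 2] : Function.Injective (toK K) := by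
  intro g h e
  refine Units.ext (Matrix.ext fun a b => (ZMod.castHom dvd_rfl K).injective ?_)
  have e' : ((toK K g : GL chevE6.Idx K) : Matrix chevE6.Idx chevE6.Idx K) = ((toK K h : GL chevE6.Idx K) : Matrix chevE6.Idx chevE6.Idx K) := by rw [e]
  exact Matrix.ext_iff.2 e' a b

/-- All coordinates. -/
def coords : List (Fin 6 ⊕ Fin 72) :=
  (List.finRange 6).map Sum.inl ++ (List.finRange 72).map Sum.inr

/-- The code of a root. -/
def codeOf (r : ℕ) : ℕ := xTab.getD (usedR.idxOf r) 0

/-- The check of the code of one root element. -/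
def xOK (r : Fin 72) : Bool :=
  coords.all fun a => coords.all fun b =>
    ((xEnt r a b) % 2 == 1) == (codeOf r.val).testBit (78 * coord a + coord b)

theorem xOK_all : ((List.finRange 72).filter fun r => usedR.contains r.val).all xOK = true := by
  decide +kernel

theorem enc_x {r : ℕ} (hr : r < 72) (hu : r ∈ usedR) :
    Enc ((coreE6 (ZMod 2)).xGL r 1) (codeOf r) := fun a b => by
  have h := List.all_eq_true.1 xOK_all ⟨r, hr⟩
    (List.mem_filter.2 ⟨List.mem_finRange _, by simpa using hu⟩)
  simp only [xOK, List.all_eq_true, beq_iff_eq] at h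
  have hmem : ∀ c, c ∈ coords := fun c => by
    rcases c with c | c <;> simp [coords]
  rw [(coreE6 (ZMod 2)).coe_xGL, ChevalleyDatum.x, dif_pos (show r < chevE6.nroots from hr)]
  refine (xMat_eq (ZMod 2) ⟨r, hr⟩ a b).trans ?_
  rw [ent, ← h a (hmem a) b (hmem b)]
  generalize xEnt ⟨r, hr⟩ a b = z
  rcases Int.emod_two_eq_zero_or_one z with e | e <;> rw [e] <;>
    rw [← ZMod.intCast_mod z 2] <;> simp [e, bitv]

/-- The code of a word. -/
noncomputable def wordC (w : List ℕ) : ℕ := prodC (w.map codeOf)

/-- All letters of the word have codes. -/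
def usedAll (w : List ℕ) : Bool := w.all fun r => decide (r < 72) && usedR.contains r

theorem enc_W1 {w : List ℕ} (h : usedAll w = true) : Enc (W1 (ZMod 2) w) (wordC w) :=
  enc_prod w fun r hr => by
    have e := List.all_eq_true.1 h r hr
    simp only [Bool.and_eq_true, decide_eq_true_eq] at e
    exact enc_x e.1 (by simpa using e.2)

/-- Words with the same code give the same element. -/
theorem W1_eq (K : Type*) [Field K] [CharP K 2] {v w : List ℕ} (hv : usedAll v = true)
    (hw : usedAll w = true) (h : wordC v = wordC w) : W1 K v = W1 K w := by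
  rw [← toK_W1 K v, ← toK_W1 K w, (enc_W1 hv).ext (enc_W1 hw) h]

theorem W1_ne (K : Type*) [Field K] [CharP K 2] {v w : List ℕ} (hv : usedAll v = true)
    (hw : usedAll w = true) (h : wordC v % 2 ^ 6084 ≠ wordC w % 2 ^ 6084) : W1 K v ≠ W1 K w :=
  fun e => by
    rw [← toK_W1 K v, ← toK_W1 K w] at e
    exact h ((enc_W1 hv).mod_eq (toK_injective K e ▸ enc_W1 hw))

end CfsgLib.TwistFive
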