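import Cfsg.Agent.Lib.TwistFive.Parts

/-!
The fixed elements of the unipotent radical and of the parabolic subgroup of type `{p₃, p₅}`.
-/

set_option autoImplicit false
set_option maxRecDepth 100000

namespace CfsgLib.TwistFive

open Cfsg.Lie CfsgLib.ChevStr CfsgLib.Twisted
open CfsgLib.Schur.E6Two (rt rho rtF refl gGL gGL_mem nK)
open scoped MatrixGroups

variable {K : Type*} [Field K] [CharP K 2] [Fintype K]
variable (hn : Fintype.card K = (2 ^ 1) * (2 ^ 1))
include hn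

/-! ### The unipotent elements -/

omit [CharP K 2] [Fintype K] hn in
theorem inRoots_levi : inRoots (coreE6 K).R (nodesE6 1) = {r | r ∈ [37, 42]} := by
  rw [inE6 K 1]
  ext r
  show r ∈ rootsE6 1 ↔ r ∈ [37, 42]
  simp [rootsE6, show e6p3 = 42 from rfl, show e6p5 = 37 from rfl, or_comm]

omit [CharP K 2] [Fintype K] hn in
theorem outRoots_levi : outRoots (coreE6 K).R (nodesE6 1) ⊆ radS 1 := by
  intro r hr
  have h : ∀ k ∈ [37, 42], SuppIn rootDataE6 (nodesE6 1) k := by decide +kernel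
  exact mem_radS hr.1 (fun e => hr.2 (h r (by simp [e]))) fun e => hr.2 (h r (by simp [e]))

/-- A fixed element of `U` splits along the Levi factor. -/
theorem vsplit {v : GL chevE6.Idx K} (hv : v ∈ chevE6.posUnipotent K)
    (hvG : v ∈ twistedE6 K (2 ^ 1)) :
    ∃ t : K, ∃ r ∈ (coreE6 K).Ucl (radS 1), r ∈ twistedE6 K (2 ^ 1) ∧
      v = (coreE6 K).xGL 42 t * (coreE6 K).xGL 37 (t * t) * r := by
  obtain ⟨a, ha, c, hc, rfl⟩ := exists_split (coreE6 K) (J := nodesE6 1) hv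
  obtain ⟨hGv, hfix⟩ := act_of_mem hn hvG
  obtain ⟨⟨-, haf⟩, -, hcf⟩ := OrbitData.split_fixed (φ := frobE6 K 2 1) orbE6 1 ha hc
    ((frobE6 K 2 1).mem_fixedSub.2 ⟨hGv, hfix⟩)
  have hcG : c ∈ twistedE6 K (2 ^ 1) :=
    (gensE6 K hn (by norm_num)).twist.U1_le c (Ucl_out_le (coreE6 K) (nodesE6 1) hc) hcf
  have ha' : a ∈ (coreE6 K).Ucl {r | r ∈ [37, 42]} := inRoots_levi (K := K) ▸ ha
  have hcl : (coreE6 K).R.IsClosed {r | r ∈ [37, 42]} :=
    inRoots_levi (K := K) ▸ inRoots_closed (coreE6 K) (nodesE6 1)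
  obtain ⟨f, rfl⟩ := (coreE6 K).exists_word (by decide) hcl a ha'
  obtain ⟨c1, -, m1, -⟩ := levi_comm
  have hroot : e6Sym.root 42 = 37 ∧ e6Sym.root 37 = 42 := by decide +kernel
  have hcomm : ∀ x y : K, (coreE6 K).xGL 42 x * (coreE6 K).xGL 37 y =
      (coreE6 K).xGL 37 y * (coreE6 K).xGL 42 x := fun x y =>
    ((coreE6 K).xGL_commute (by decide) (by decide) (by decide) m1 (by simp [c1]) x y).symm
  have e : (coreE6 K).word [37, 42] (fun k => if k = 37 then f 42 * f 42 else f 37 * f 37) =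
      (coreE6 K).word [37, 42] f := by
    conv_rhs => rw [← haf]
    simp only [(coreE6 K).word_cons, (coreE6 K).word_nil, mul_one]
    rw [(frobE6 K 2 1).act_mul ((coreE6 K).xGL_mem_group _ _) ((coreE6 K).xGL_mem_group _ _),
      actX (by decide), actX (by decide), hroot.1, hroot.2, hcomm, if_pos trivial,
      if_neg (by norm_num)]
  have h37 := (coreE6 K).word_injective (by decide)
    (fun r hr => (hcl.1 r hr)) _ _ e 37 (by simp)
  refine ⟨f 42, c, (coreE6 K).Ucl_mono outRoots_levi hc, hcG, ?_⟩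
  simp only [(coreE6 K).word_cons, (coreE6 K).word_nil, mul_one]
  rw [hcomm, show f 37 = f 42 * f 42 from h37.symm.trans (if_pos rfl)]

theorem levi_half_mem {t : K} {r v : GL chevE6.Idx K} (hr : r ∈ twistedE6 K (2 ^ 1))
    (hv : v ∈ twistedE6 K (2 ^ 1))
    (e : v = (coreE6 K).xGL 42 t * (coreE6 K).xGL 37 (t * t) * r) :
    (coreE6 K).xGL 42 t * (coreE6 K).xGL 37 (t * t) ∈ twistedE6 K (2 ^ 1) := by
  rw [eq_mul_inv_of_mul_eq e.symm]
  exact mul_mem hv (inv_mem hr)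

/-- The matrix of a fixed element of `U`. -/
theorem Mrep_U {v : GL chevE6.Idx K} (hv : v ∈ chevE6.posUnipotent K)
    (hvG : v ∈ twistedE6 K (2 ^ 1)) :
    ∃ t : K, Mrep v = !![1, 0; t, 1] ∧ (t = 0 → v ∈ (coreE6 K).Ucl (radS 1)) := by
  obtain ⟨t, r, hr, -, rfl⟩ := vsplit hn hv hvG
  refine ⟨t, ?_, fun ht => ?_⟩
  · rw [Mrep_mul (mul_mem (xGL_mem_par (nnR_levi 42 (by simp)) _)
      (xGL_mem_par (nnR_levi 37 (by simp)) _)) (Ucl_radS_le_par 1 hr),
      (radU_le_kerM hr).2, mul_one, Mrep_L]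
  · rw [ht, mul_zero, (coreE6 K).xGL_zero, (coreE6 K).xGL_zero, one_mul, one_mul]
    exact hr

/-! ### The centraliser in the radical -/

omit hn [Fintype K] [CharP K 2] in
theorem phi_list : (phiR.Pairwise (· < ·)) ∧
    (∀ r : Fin chevE6.nroots, chevE6.IsPosRoot r.val → chevE6.cartan 2 r.val = 0 →
      chevE6.cartan 4 r.val = 0 → r.val ∈ phiR) ∧
    (∀ r ∈ phiR, chevE6.cartan 2 r = 0 ∧ chevE6.cartan 4 r = 0 ∧ e6Sym.root r = r) ∧
    (∀ r ∈ phiR, ∃ i j : Fin 4, i ≠ j ∧ r = eRoot i j) := by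
  decide +kernel

omit hn [Fintype K] [CharP K 2] in
theorem isClosed_phiR : (coreE6 K).R.IsClosed {r | r ∈ phiR} := by
  refine ⟨fun r hr => phi_facts.2 r hr, fun r hr s hs k hk => ?_⟩
  have hpos := (coreE6 K).R.combo_pos (phi_facts.2 r hr) (phi_facts.2 s hs) hk
  have hlin : ∀ i : Fin chevE6.rank, chevE6.cartan i.val r = 0 → chevE6.cartan i.val s = 0 →
      chevE6.cartan i.val k = 0 := by
    intro i h1 h2
    obtain ⟨hk', a, b, -, -, e⟩ := hk
    rw [(coreE6 K).R.cartan_eq i r (phi_facts.2 r hr).1] at h1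
    rw [(coreE6 K).R.cartan_eq i s (phi_facts.2 s hs).1] at h2
    rw [(coreE6 K).R.cartan_eq i k hk', e]
    simp only [Pi.add_apply, Pi.smul_apply, smul_eq_mul, add_mul, mul_assoc,
      Finset.sum_add_distrib, ← Finset.mul_sum, h1, h2, mul_zero, add_zero]
  obtain ⟨r2, r4, -⟩ := phi_list.2.2.1 r hr
  obtain ⟨s2, s4, -⟩ := phi_list.2.2.1 s hs
  exact phi_list.2.1 ⟨k, hpos.1⟩ hpos (hlin ⟨2, by decide⟩ r2 s2) (hlin ⟨4, by decide⟩ r4 s4)

/-- A fixed element of the radical commuting with the element of order five is in the group of the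
twelve root elements. -/
theorem rad_mem_aGroup {w : K} (hw : w ≠ 0) (hv : w + 1 ≠ 0) {g : GL chevE6.Idx K}
    (hg : g ∈ (coreE6 K).Ucl (radS 1)) (hgG : g ∈ twistedE6 K (2 ^ 1))
    (hc : Commute (xEl w) g) : g ∈ aGroup K := by
  have hphi := centralizer_radical hw hv hg hc
  obtain ⟨f, rfl⟩ := (coreE6 K).exists_word phi_list.1 isClosed_phiR g hphi
  have hact : ∀ L : List ℕ, (∀ r ∈ L, r ∈ phiR) →
      (frobE6 K 2 1).act ((coreE6 K).word L f) = (coreE6 K).word L fun r => f r * f r := by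
    intro L
    induction L with
    | nil => exact fun _ => by rw [(coreE6 K).word_nil, (frobE6 K 2 1).act_one]; rfl
    | cons k L ih =>
      intro hL
      rw [(coreE6 K).word_cons, (coreE6 K).word_cons,
        (frobE6 K 2 1).act_mul ((coreE6 K).xGL_mem_group _ _) (show (coreE6 K).word L f ∈ chevE6.group K from (coreE6 K).wordGL_mem_group _),
        actX (phi_facts.2 k (hL k List.mem_cons_self)).1,
        (phi_list.2.2.1 k (hL k List.mem_cons_self)).2.2,
        ih fun r hr => hL r (List.mem_cons_of_mem _ hr)]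
  have e := (hact phiR fun _ h => h).symm.trans (act_of_mem hn hgG).2
  refine Subgroup.list_prod_mem _ fun x hx => ?_
  simp only [List.map_map, List.mem_map, Function.comp_apply] at hx
  obtain ⟨r, hr, rfl⟩ := hx
  obtain ⟨i, j, hij, he⟩ := phi_list.2.2.2 r hr
  have h2 := (coreE6 K).word_injective phi_list.1 phi_facts.2 _ _ e r hr
  rcases eq_or_ne (f r) 0 with h | h
  · rw [h, (coreE6 K).xGL_zero]; exact one_mem _
  · rw [show f r = 1 from mul_eq_left₀ h |>.1 h2, he]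
    exact x_mem_aGroup K hij

/-! ### The parabolic subgroup -/

omit hn [Fintype K] [CharP K 2] in
theorem nn_roots : ∀ r : Fin chevE6.nroots, nnR r.val = true ∨ (al r.val ∈ DN) := by
  have h : ∀ r : Fin chevE6.nroots, nnR r.val = true ∨
      ((∀ j, al r.val (coeff j) ≤ 0) ∧ outC (al r.val) ≤ -1) := by
    simp only [outC_apply]
    decide +kernel
  exact h

/-- The indices of the roots of non-negative degree. -/
def nnIdx : List ℕ := [32, 34] ++ List.range' 36 36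

/-- The elements of the twisted Weyl group preserving the roots of non-negative degree. -/
def preserveOK : Bool :=
  (List.range 48).all fun a => (List.range 24).all fun c =>
    ((Nat.beq a 0 || Nat.beq a 2) && Nat.beq c 0) ||
      nnIdx.any fun i => !(nnR (rt (look tT a (look hT c i))))

omit hn [Fintype K] [CharP K 2] in
theorem preserve_ok : preserveOK = true := by decide +kernel

omit hn [Fintype K] [CharP K 2] in
theorem nnIdx_facts : (∀ i ∈ nnIdx, i < 72 ∧ nnR (rt i) = true) ∧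
    tW.getD 0 [] = [] ∧ tW.getD 2 [] = [1] ∧ tW.getD 17 [] = [2, 1, 2] ∧ hW 0 = [] := by
  decide +kernel

/-- The shapes of the fixed elements of the parabolic subgroup. -/
theorem par_cases {g : GL chevE6.Idx K} (hgG : g ∈ twistedE6 K (2 ^ 1)) (hgp : g ∈ par K) :
    (∃ u ∈ chevE6.posUnipotent K, u ∈ twistedE6 K (2 ^ 1) ∧
      ∃ d ∈ chevE6.diagonalSubgroup K, d ∈ twistedE6 K (2 ^ 1) ∧ g = u * d) ∨
    (∃ u ∈ chevE6.posUnipotent K, u ∈ twistedE6 K (2 ^ 1) ∧
      ∃ d ∈ chevE6.diagonalSubgroup K, d ∈ twistedE6 K (2 ^ 1) ∧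
      ∃ v ∈ chevE6.posUnipotent K, v ∈ twistedE6 K (2 ^ 1) ∧ g = u * d * nK 1 * v) := by
  obtain ⟨u, ⟨hu, huG⟩, n, ⟨hnN, hnG⟩, v, ⟨hv, hvG⟩, -, rfl⟩ :=
    (gensE6 K hn (by norm_num)).twist.nf hgG
  have hnp : n ∈ par K := by
    have e : n = u⁻¹ * (u * n * v) * v⁻¹ := by group
    rw [e]
    exact mul_mem (mul_mem (inv_mem (posUnipotent_le_par hu)) hgp) (inv_mem (posUnipotent_le_par hv))
  obtain ⟨σ, hσ, -⟩ := (coreE6 K).exists_moves hnN
  have hpres : ∀ r : Fin chevE6.nroots, nnR r.val = true → nnR (σ r).val = true := by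
    intro r hr
    obtain ⟨t, ht⟩ := hσ.2 r 1
    refine (nn_roots (σ r)).resolve_right fun hD => ?_
    have hmem : (coreE6 K).xGL (σ r) t ∈ par K :=
      ht ▸ mul_mem (mul_mem hnp (xGL_mem_par hr _)) (inv_mem hnp)
    have h1 := negU_inf_par ((coreE6 K).xGL_mem_Ucl (S := negS) ⟨(σ r).isLt, hD⟩ t) hmem
    rw [h1, mul_inv_eq_one, mul_eq_left, (coreE6 K).xGL_eq_one_iff r.isLt] at ht
    exact one_ne_zero ht
  obtain ⟨a, ha, c, hc, rfl⟩ := twist_isCoset K hn hσ.1
    ((frobE6 K 2 1).commute_of_fixed hnN hσ (act_of_mem hn hnG).2)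
  have hac : (a = 0 ∨ a = 2) ∧ c = 0 := by
    have h := preserve_ok
    simp only [preserveOK, List.all_eq_true, List.mem_range, Bool.or_eq_true, Bool.and_eq_true,
      List.any_eq_true, Bool.not_eq_true'] at h
    rcases h a ha c hc with ⟨h1, h2⟩ | ⟨i, hi, h3⟩
    · exact ⟨h1.imp Nat.eq_of_beq_eq_true Nat.eq_of_beq_eq_true, Nat.eq_of_beq_eq_true h2⟩
    · exfalso
      obtain ⟨hi72, hinn⟩ := nnIdx_facts.1 i hi
      have h4 := hpres (rtF ⟨i, hi72⟩) hinn
      rw [permW_rt] at h4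
      have h5 : nnR (rt (wFun (tW.getD a [] ++ hW c) i)) = true := h4
      rw [permW_tables ha hc i hi72, h3] at h5
      exact Bool.noConfusion h5
  obtain ⟨-, t0, t2, -, h0⟩ := nnIdx_facts
  obtain ⟨rfl | rfl, rfl⟩ := hac
  · rw [t0, h0] at hσ
    have hd := (coreE6 K).mem_diagonal_of_moves_one hnN hσ
    refine Or.inl ⟨u * (n * v * n⁻¹), mul_mem hu ((chevAmbient (coreE6 K)).H_conj_U n hd v hv),
      mul_mem huG (mul_mem (mul_mem hnG hvG) (inv_mem hnG)), n, hd, hnG, by group⟩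
  · rw [t2, h0] at hσ
    have hs : (coreE6 K).Moves (n * (nK 1)⁻¹) 1 := by
      have h := ChevCore.Moves.mul (coreE6 K) hσ
        (ChevCore.Moves.inv (coreE6 K) (nK_mono 1) (ChevCore.Acts.moves (coreE6 K)
          (Schur.E6Two.acts_nK 1)))
      have e : permW ([1] ++ []) = reflDataE6.wordPerm (e6TwistWord 1) := by
        rw [List.append_nil, permW_cons]
        exact mul_one _
      rw [e] at h
      simpa using h
    exact Or.inr ⟨u, hu, huG, n * (nK 1)⁻¹,
      (coreE6 K).mem_diagonal_of_moves_one (mul_mem hnN (inv_mem (nK_mono 1))) hs,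
      mul_mem hnG (inv_mem (Schur.E6Two.nK_mem 1)), v, hv, hvG, by group⟩

/-- The shapes of the matrices. -/
theorem par_shapes {g : GL chevE6.Idx K} (hgG : g ∈ twistedE6 K (2 ^ 1)) (hgp : g ∈ par K) :
    (∃ t z : K, z ^ 3 = 1 ∧ Mrep g = !![z, 0; t * z, z * z] ∧
      (t = 0 → z = 1 → g ∈ (coreE6 K).Ucl (radS 1))) ∨
    (∃ u ∈ chevE6.posUnipotent K, ∃ d ∈ chevE6.diagonalSubgroup K, ∃ v ∈ chevE6.posUnipotent K,
      g = u * d * nK 1 * v ∧ ∃ t t' z : K, z ^ 3 = 1 ∧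
        Mrep g = !![z * t', z; t * z * t' + z * z, t * z]) := by
  rcases par_cases hn hgG hgp with ⟨u, hu, huG, d, hd, hdG, rfl⟩ |
    ⟨u, hu, huG, d, hd, hdG, v, hv, hvG, rfl⟩
  · obtain ⟨t, ht, ht0⟩ := Mrep_U hn hu huG
    obtain ⟨z, hz3, hz, hz1⟩ := diag_fixed hn hd hdG
    refine Or.inl ⟨t, z, hz3, ?_, fun e1 e2 => ?_⟩
    · rw [Mrep_mul (posUnipotent_le_par hu) (diag_le_par hd), ht, hz, Matrix.mul_fin_two]
      ext i j
      fin_cases i <;> fin_cases j <;> simp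
    · rw [hz1 e2, mul_one]
      exact ht0 e1
  · obtain ⟨t, ht, -⟩ := Mrep_U hn hu huG
    obtain ⟨t', ht', -⟩ := Mrep_U hn hv hvG
    obtain ⟨z, hz3, hz, -⟩ := diag_fixed hn hd hdG
    refine Or.inr ⟨u, hu, d, hd, v, hv, rfl, t, t', z, hz3, ?_⟩
    rw [Mrep_mul (mul_mem (mul_mem (posUnipotent_le_par hu) (diag_le_par hd)) s_mem_par)
        (posUnipotent_le_par hv),
      Mrep_mul (mul_mem (posUnipotent_le_par hu) (diag_le_par hd)) s_mem_par,
      Mrep_mul (posUnipotent_le_par hu) (diag_le_par hd), ht, hz, ht', Mrep_s]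
    simp only [Matrix.mul_fin_two]
    ext i j
    fin_cases i <;> fin_cases j <;> simp <;> ring

end CfsgLib.TwistFive
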