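import Cfsg.Agent.Lib.TwistFive.Split

/-!
The centraliser in ²E₆(2) of the element of order five of the Levi factor of type `{p₃, p₅}` is
generated by this element and the group of the twelve root elements.
-/

set_option autoImplicit false
set_option maxRecDepth 100000
set_option maxHeartbeats 400000

namespace CfsgLib.TwistFive

open Cfsg.Lie CfsgLib.ChevStr CfsgLib.Twisted
open CfsgLib.Schur.E6Two (rt rho rtF rt_inj refl gGL gGL_mem nK)
open scoped MatrixGroups

variable {K : Type*} [Field K]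

/-! ### Roots of the Levi factor -/

/-- The root `p₃`. -/
def r42 : Fin chevE6.nroots := rtF ⟨39, by norm_num⟩
/-- The root `p₅`. -/
def r37 : Fin chevE6.nroots := rtF ⟨37, by norm_num⟩
/-- The root `-p₃`. -/
def r29 : Fin chevE6.nroots := rtF ⟨32, by norm_num⟩
/-- The root `-p₅`. -/
def r34 : Fin chevE6.nroots := rtF ⟨34, by norm_num⟩

/-- The reflection of the Levi factor. -/
abbrev sW : Equiv.Perm (Fin chevE6.nroots) := permW [1]

theorem levi_facts :
    ((r42 : ℕ) = 42 ∧ (r37 : ℕ) = 37 ∧ (r29 : ℕ) = 29 ∧ (r34 : ℕ) = 34) ∧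
    (chevE6.neg r42 = r29 ∧ chevE6.neg r37 = r34) ∧
    (sW r42 = r29 ∧ sW r37 = r34 ∧ sW r29 = r42 ∧ sW r34 = r37) ∧
    (rhoE6 r42 = r37 ∧ rhoE6 r37 = r42) ∧
    (∀ r : Fin chevE6.nroots, chevE6.IsPosRoot r → (r : ℕ) ∉ leviR → chevE6.IsPosRoot (sW r)) ∧
    (∀ r : Fin chevE6.nroots, chevE6.IsPosRoot r → sW (sW r) = r) := by
  decide +kernel

theorem neg_of_not_pos {r : Fin chevE6.nroots} (h : ¬ chevE6.IsPosRoot r) : chevE6.IsNegRoot r :=
  (rootDataE6.pos_or_neg r.isLt).resolve_left h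

/-- The negative of a negative root is positive. -/
theorem pos_neg_of_not_pos {σ : Equiv.Perm (Fin chevE6.nroots)} (hσ : σ ∈ (coreE6 K).hR.weyl)
    {r r' : Fin chevE6.nroots} (e : chevE6.neg r = r') (h : ¬ chevE6.IsPosRoot (σ r)) :
    chevE6.IsPosRoot (σ r') := by
  have he : (⟨chevE6.neg r, (coreE6 K).R.neg_lt r r.isLt⟩ : Fin chevE6.nroots) = r' := Fin.ext e
  rw [← he, (coreE6 K).hR.apply_neg hσ r, (coreE6 K).R.isPos_neg_iff (σ r).isLt]
  exact neg_of_not_pos h

variable [CharP K 2]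

theorem pos_r37 {σ : Equiv.Perm (Fin chevE6.nroots)} (hc : Commute (frobE6 K 2 1).ρ σ)
    (h : chevE6.IsPosRoot (σ r42)) : chevE6.IsPosRoot (σ r37) := by
  have e : σ r37 = (frobE6 K 2 1).ρ (σ r42) := by
    rw [← Equiv.Perm.mul_apply, hc.eq, Equiv.Perm.mul_apply]
    exact congrArg σ levi_facts.2.2.2.1.1.symm
  rw [e]
  exact (frobE6 K 2 1).ρ_pos _ h

theorem pos_r42 {σ : Equiv.Perm (Fin chevE6.nroots)} (hc : Commute (frobE6 K 2 1).ρ σ)
    (h : chevE6.IsPosRoot (σ r37)) : chevE6.IsPosRoot (σ r42) := by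
  have e : σ r42 = (frobE6 K 2 1).ρ (σ r37) := by
    rw [← Equiv.Perm.mul_apply, hc.eq, Equiv.Perm.mul_apply]
    exact congrArg σ levi_facts.2.2.2.1.2.symm
  rw [e]
  exact (frobE6 K 2 1).ρ_pos _ h

theorem radS_not_levi {r : ℕ} (h : r ∈ radS 1) : r ∉ leviR := by
  intro hr
  have hz : ∀ s ∈ leviR, outC (al s) = 0 := by
    simp only [outC_apply]
    decide +kernel
  have h1 := hz r hr
  have h2 := h.2.2
  omega

theorem invRoots_subset {σ : Equiv.Perm (Fin chevE6.nroots)} (h1 : chevE6.IsPosRoot (σ r42))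
    (h2 : chevE6.IsPosRoot (σ r37)) : (coreE6 K).hR.invRoots σ ⊆ radS 1 := by
  rintro r ⟨hr, hmem⟩
  obtain ⟨hp, hneg⟩ := (coreE6 K).hR.mem_invSet.1 hmem
  refine mem_radS hp (fun e => ?_) fun e => ?_
  · rw [show (⟨r, hr⟩ : Fin chevE6.nroots) = r42 from Fin.ext (e.trans levi_facts.1.1.symm)] at hneg
    exact rootDataE6.not_pos_and_neg h1 hneg
  · rw [show (⟨r, hr⟩ : Fin chevE6.nroots) = r37 from Fin.ext (e.trans levi_facts.1.2.1.symm)] at hneg
    exact rootDataE6.not_pos_and_neg h2 hneg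

theorem s_inv : (nK 1 : GL chevE6.Idx K)⁻¹ = nK 1 := inv_eq_of_mul_eq_one_right (nK_sq 1)

theorem s_eq : (NW [1] : GL chevE6.Idx K) = nK 1 := mul_one _

theorem s_moves : (coreE6 K).Moves (nK 1) sW := s_eq (K := K) ▸ NW_moves [1]

/-- A product with the reflection lies in one double coset. -/
theorem cell_step {n : GL chevE6.Idx K} (hn : n ∈ chevE6.monomialSubgroup K)
    {σ : Equiv.Perm (Fin chevE6.nroots)} (hmv : (coreE6 K).Moves n σ)
    (h1 : chevE6.IsPosRoot (σ r42)) (h2 : chevE6.IsPosRoot (σ r37)) {b : GL chevE6.Idx K}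
    (hb : b ∈ chevE6.borelSubgroup K) : n * b * nK 1 ∈ (coreE6 K).bigCell (n * nK 1) := by
  obtain ⟨a, ha, u, hu, e⟩ := (coreE6 K).mul_borel_mem σ hmv.1 n hn hmv b hb
  have hu' : nK 1 * u * (nK 1)⁻¹ ∈ chevE6.borelSubgroup K := by
    refine (coreE6 K).conj_Ucl_le (S := radS 1) s_moves (fun s hs t => ?_) u
      ((coreE6 K).Ucl_mono (invRoots_subset h1 h2) hu)
    exact (coreE6 K).pos_mem_borel (levi_facts.2.2.2.2.1 s hs.1 (radS_not_levi hs)) t
  refine (coreE6 K).mem_bigCell.2 ⟨a, ha, nK 1 * u * (nK 1)⁻¹, hu', ?_⟩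
  calc n * b * nK 1 = a * n * u * nK 1 := by rw [e]
    _ = a * n * (nK 1 * nK 1) * u * nK 1 := by rw [nK_sq, mul_one]
    _ = _ := by rw [s_inv]; simp only [mul_assoc]

/-- A representative with both simple roots of the Levi factor positive, forwards and backwards. -/
theorem exists_good {n : GL chevE6.Idx K} (hn : n ∈ chevE6.monomialSubgroup K)
    (hnG : n ∈ twistedE6 K (2 ^ 1)) [Fintype K] (hF : Fintype.card K = (2 ^ 1) * (2 ^ 1)) :
    ∃ n' σ, n' ∈ chevE6.monomialSubgroup K ∧ n' ∈ twistedE6 K (2 ^ 1) ∧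
      (coreE6 K).Moves n' σ ∧ Commute (frobE6 K 2 1).ρ σ ∧
      chevE6.IsPosRoot (σ r42) ∧ chevE6.IsPosRoot (σ⁻¹ r42) ∧
      ∃ e₁ ∈ ({1, nK 1} : Set (GL chevE6.Idx K)), ∃ e₂ ∈ ({1, nK 1} : Set (GL chevE6.Idx K)),
        n = e₁ * n' * e₂ := by
  obtain ⟨hfacts, ⟨hneg42, hneg37⟩, ⟨s42, s37, s29, s34⟩, -, hspos, hss⟩ := levi_facts
  have comm : ∀ {m : GL chevE6.Idx K} {τ : Equiv.Perm (Fin chevE6.nroots)},
      m ∈ chevE6.monomialSubgroup K → m ∈ twistedE6 K (2 ^ 1) → (coreE6 K).Moves m τ →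
        Commute (frobE6 K 2 1).ρ τ := fun hm hmG hmv =>
    (frobE6 K 2 1).commute_of_fixed hm hmv (act_of_mem hF hmG).2
  have smem := Schur.E6Two.nK_mem (K := K) 1
  have smono := nK_mono (K := K) 1
  obtain ⟨n₁, σ₁, hn₁, hn₁G, hmv₁, hp₁, e₂, he₂, rfl⟩ :
      ∃ n₁ σ₁, n₁ ∈ chevE6.monomialSubgroup K ∧ n₁ ∈ twistedE6 K (2 ^ 1) ∧
        (coreE6 K).Moves n₁ σ₁ ∧ chevE6.IsPosRoot (σ₁ r42) ∧
        ∃ e₂ ∈ ({1, nK 1} : Set (GL chevE6.Idx K)), n = n₁ * e₂ := by
    obtain ⟨σ, hσ, -⟩ := (coreE6 K).exists_moves hn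
    by_cases h : chevE6.IsPosRoot (σ r42)
    · exact ⟨n, σ, hn, hnG, hσ, h, 1, Or.inl rfl, (mul_one n).symm⟩
    · refine ⟨n * nK 1, σ * sW, mul_mem hn smono, mul_mem hnG smem,
        ChevCore.Moves.mul (coreE6 K) hσ s_moves, ?_, nK 1, Or.inr rfl,
        by rw [mul_assoc, nK_sq, mul_one]⟩
      rw [Equiv.Perm.mul_apply, s42]
      exact pos_neg_of_not_pos hσ.1 hneg42 h
  have hc₁ := comm hn₁ hn₁G hmv₁
  by_cases h : chevE6.IsPosRoot (σ₁⁻¹ r42)
  · exact ⟨n₁, σ₁, hn₁, hn₁G, hmv₁, hc₁, hp₁, h, 1, Or.inl rfl, e₂, he₂, by rw [one_mul]⟩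
  have hmv₂ := ChevCore.Moves.mul (coreE6 K) s_moves hmv₁
  have hsinv : sW⁻¹ r42 = r29 := by rw [Equiv.Perm.inv_def, Equiv.symm_apply_eq, s29]
  refine ⟨nK 1 * n₁, sW * σ₁, mul_mem smono hn₁, mul_mem smem hn₁G, hmv₂,
    comm (mul_mem smono hn₁) (mul_mem smem hn₁G) hmv₂, ?_, ?_, nK 1, Or.inr rfl, e₂, he₂,
    by rw [← mul_assoc (nK 1), nK_sq, one_mul]⟩
  · rw [Equiv.Perm.mul_apply]
    refine hspos _ hp₁ fun hl => ?_
    have hp42 : chevE6.IsPosRoot r42 := by decide +kernel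
    have hp37 : chevE6.IsPosRoot r37 := by decide +kernel
    have hn29 : ¬ chevE6.IsPosRoot 29 ∧ ¬ chevE6.IsPosRoot 34 := by decide +kernel
    simp only [leviR, List.mem_cons, List.not_mem_nil, or_false] at hl
    rcases hl with hl | hl | hl | hl
    · have e : σ₁ r42 = r42 := Fin.ext (hl.trans hfacts.1.symm)
      have e' : σ₁⁻¹ r42 = r42 := by rw [Equiv.Perm.inv_def, Equiv.symm_apply_eq, e]
      exact h (e'.symm ▸ hp42)
    · have e : σ₁ r42 = r37 := Fin.ext (hl.trans hfacts.2.1.symm)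
      have e' : σ₁⁻¹ r37 = r42 := by rw [Equiv.Perm.inv_def, Equiv.symm_apply_eq, e]
      exact h (pos_r42 hc₁.inv_right (e'.symm ▸ hp42))
    · exact hn29.1 (hl ▸ hp₁)
    · exact hn29.2 (hl ▸ hp₁)
  · rw [_root_.mul_inv_rev, Equiv.Perm.mul_apply, hsinv]
    exact pos_neg_of_not_pos (inv_mem hmv₁.1) hneg42 h

/-- The subgroup of the Levi factor. -/
noncomputable abbrev levU (K : Type*) [Field K] : Subgroup (GL chevE6.Idx K) :=
  (coreE6 K).Ucl {r | r ∈ leviR}

omit [CharP K 2] in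
theorem levU_le_par : levU K ≤ par K :=
  (coreE6 K).Ucl_le fun r hr t => xGL_mem_par (nnR_levi r hr) t

theorem s_mem_levU : (nK 1 : GL chevE6.Idx K) ∈ levU K := by
  rw [← W1_nW, nW_one]
  refine Subgroup.list_prod_mem _ fun x hx => ?_
  obtain ⟨r, hr, rfl⟩ := List.mem_map.1 hx
  refine (coreE6 K).xGL_mem_Ucl (S := {r | r ∈ leviR}) ?_ 1
  clear hx
  revert hr r
  decide

omit [CharP K 2] in
theorem levi_negS (w : K) :
    xEl w ∈ Subgroup.normalizer ((coreE6 K).Ucl negS : Set (GL chevE6.Idx K)) := by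
  have key : ∀ r ∈ leviR, ∀ t : K, (coreE6 K).xGL r t ∈
      Subgroup.normalizer ((coreE6 K).Ucl negS : Set (GL chevE6.Idx K)) := by
    intro r hr t
    have h : ∀ r ∈ leviR, r < chevE6.nroots ∧ (∀ j, al r (coeff j) = 0) ∧
        ∀ j, al (chevE6.neg r) (coeff j) = 0 := by decide +kernel
    obtain ⟨hlt, hz, hzn⟩ := h r hr
    refine (coreE6 K).xGL_mem_normalizer hlt (fun s hs => ⟨hs.1, fun e => ?_, fun k hk => ?_⟩) t
    · have h1 := hs.2.2
      rw [e, outC_apply, hzn, hzn, hzn, hzn] at h1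
      norm_num at h1
    · obtain ⟨hk', a, b, -, hb, e⟩ := hk
      have e' : al k = (a : ℤ) • al r + (b : ℤ) • al s := e
      refine ⟨hk', fun j => ?_, ?_⟩
      · rw [e']
        simp only [Pi.add_apply, Pi.smul_apply, smul_eq_mul, hz, mul_zero, zero_add]
        exact mul_nonpos_of_nonneg_of_nonpos (Int.natCast_nonneg b) (hs.2.1 j)
      · have h1 := hs.2.2
        have hz' : outC (al r) = 0 := by rw [outC_apply, hz, hz, hz, hz]; rfl
        have hb' : (1 : ℤ) ≤ b := by omega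
        rw [e', map_add, map_zsmul, map_zsmul, smul_eq_mul, smul_eq_mul, hz']
        nlinarith
  exact mul_mem (mul_mem (key 42 (by simp [leviR]) _) (key 37 (by simp [leviR]) _))
    (mul_mem (key 29 (by simp [leviR]) _) (key 34 (by simp [leviR]) _))

variable [Fintype K] (hn : Fintype.card K = (2 ^ 1) * (2 ^ 1))
include hn

/-- An element `p N r` commuting with the element of order five may be written `p' N v` with `v`
commuting with it. -/
theorem strip {N : GL chevE6.Idx K} (hN : N ∈ chevE6.monomialSubgroup K)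
    (hNG : N ∈ twistedE6 K (2 ^ 1)) {σ : Equiv.Perm (Fin chevE6.nroots)}
    (hmv : (coreE6 K).Moves N σ) (hcσ : Commute (frobE6 K 2 1).ρ σ)
    (h1 : chevE6.IsPosRoot (σ r42)) (h2 : chevE6.IsPosRoot (σ r37))
    (hneg : ∀ s, chevE6.IsPosRoot s.val → chevE6.IsNegRoot (σ s) → (σ s : ℕ) ∈ negS)
    {w w' : K} (hconj : N * xEl w * N⁻¹ = xEl w')
    {p r : GL chevE6.Idx K} (hp : p ∈ par K) (hpG : p ∈ twistedE6 K (2 ^ 1))
    (hr : r ∈ (coreE6 K).Ucl (radS 1)) (hrG : r ∈ twistedE6 K (2 ^ 1))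
    (hcomm : Commute (p * N * r) (xEl w)) :
    ∃ p' ∈ par K, p' ∈ twistedE6 K (2 ^ 1) ∧ ∃ v ∈ (coreE6 K).Ucl (radS 1),
      v ∈ twistedE6 K (2 ^ 1) ∧ p * N * r = p' * N * v ∧ Commute (xEl w) v ∧
        xEl w * p' = p' * xEl w' := by
  set C := coreE6 K
  set φ := frobE6 K 2 1
  have hU : C.Ucl (radS 1) ≤ chevE6.posUnipotent K :=
    C.Ucl_le fun k hk t => C.xGL_mem_posUnipotent hk.1 t
  obtain ⟨a, ha, v, hv, e⟩ := C.mul_borel_mem σ hmv.1 N hN hmv r
    (le_sup_left (b := chevE6.diagonalSubgroup K) (hU hr))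
  have hvR : v ∈ C.Ucl (radS 1) := C.Ucl_mono (invRoots_subset h1 h2) hv
  have haG : a ∈ chevE6.group K := C.borel_le_group ha
  have hvB : v ∈ chevE6.borelSubgroup K := C.Ucl_invRoots_le σ hv
  have hvG0 : v ∈ chevE6.group K := C.borel_le_group hvB
  obtain ⟨hNG0, hNfix⟩ := act_of_mem hn hNG
  have hstab : φ.Stable (C.hR.invRoots σ) := fun k hk => by
    rw [C.hR.mem_invRoots] at hk ⊢
    refine ⟨φ.ρ_pos k hk.1, ?_⟩
    rw [← Equiv.Perm.mul_apply, ← hcσ.eq, Equiv.Perm.mul_apply]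
    exact φ.ρ_isNeg hk.2
  have haB : φ.act a ∈ chevE6.borelSubgroup K := by
    obtain ⟨u, hu, c, rfl⟩ := C.mem_borel.1 ha
    have hd : C.R.torus c ∈ chevE6.diagonalSubgroup K := by
      rw [C.diagonalSubgroup_eq]; exact ⟨c, rfl⟩
    rw [φ.act_mul (C.borel_le_group (le_sup_left (b := chevE6.diagonalSubgroup K) hu))
      (C.borel_le_group (C.torus_mem_borel c))]
    exact mul_mem (le_sup_left (b := chevE6.diagonalSubgroup K) (φ.act_U u hu))
      (le_sup_right (a := chevE6.posUnipotent K) (φ.act_H _ hd))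
  have efix : φ.act a * N * φ.act v = a * N * v := by
    have h3 := (act_of_mem hn (mul_mem hNG hrG)).2
    rw [e, φ.act_mul (mul_mem haG hNG0) hvG0, φ.act_mul haG hNG0, hNfix] at h3
    exact h3
  obtain ⟨-, hvfix⟩ := (C.normalForm_unique haB ha hN hN hmv hmv
    (φ.act_Ucl hstab v hv) hv efix).2.2 rfl
  have hvG : v ∈ twistedE6 K (2 ^ 1) :=
    (gensE6 K hn (by norm_num)).twist.U1_le v (hU hvR) hvfix
  have hae : a = N * r * v⁻¹ * N⁻¹ := by rw [e]; group
  have haG1 : a ∈ twistedE6 K (2 ^ 1) :=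
    hae ▸ mul_mem (mul_mem (mul_mem hNG hrG) (inv_mem hvG)) (inv_mem hNG)
  have hap : a ∈ par K := sup_le posUnipotent_le_par diag_le_par ha
  refine ⟨p * a, mul_mem hp hap, mul_mem hpG haG1, v, hvR, hvG,
    by rw [mul_assoc p, e]; simp only [mul_assoc], ?_⟩
  -- the two factors commute separately
  set x := xEl w with hx
  set x' := xEl w' with hx'
  set q := p * a with hq
  have hxq : x * q * N * v = q * x' * N * (x⁻¹ * v * x) := by
    have h3 := hcomm.eq
    rw [mul_assoc p, e] at h3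
    calc x * q * N * v = x * (p * (a * N * v)) := by rw [hq]; simp only [mul_assoc]
      _ = p * (a * N * v) * x := h3.symm
      _ = q * (N * x * N⁻¹) * N * (x⁻¹ * v * x) := by rw [hq]; group
      _ = _ := by rw [hconj]
  have hVneg : ∀ u ∈ C.Ucl (C.hR.invRoots σ), N * u * N⁻¹ ∈ C.Ucl negS :=
    C.conj_Ucl_le hmv fun s hs t => by
      rw [C.hR.mem_invRoots] at hs
      exact C.xGL_mem_Ucl (hneg s hs.1 hs.2) t
  have hA := hVneg v hv
  have hB : N * (x⁻¹ * v * x) * N⁻¹ ∈ C.Ucl negS := by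
    have e1 : N * (x⁻¹ * v * x) * N⁻¹ = x'⁻¹ * (N * v * N⁻¹) * x' := by
      rw [← hconj]; group
    rw [e1]
    have := (Subgroup.mem_normalizer_iff.1 (inv_mem (levi_negS w')) (N * v * N⁻¹)).1 hA
    rwa [inv_inv] at this
  have e2 : N * (x⁻¹ * v * x) * N⁻¹ * (N * v * N⁻¹)⁻¹ = (q * x')⁻¹ * (x * q) := by
    calc N * (x⁻¹ * v * x) * N⁻¹ * (N * v * N⁻¹)⁻¹
        = (q * x')⁻¹ * (q * x' * N * (x⁻¹ * v * x)) * v⁻¹ * N⁻¹ := by group
      _ = (q * x')⁻¹ * (x * q * N * v) * v⁻¹ * N⁻¹ := by rw [hxq]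
      _ = _ := by group
  have hqp : q ∈ par K := mul_mem hp hap
  have e3 := negU_inf_par (mul_mem hB (inv_mem hA)) (e2 ▸ mul_mem
    (inv_mem (mul_mem hqp (xEl_mem_par w'))) (mul_mem (xEl_mem_par w) hqp))
  rw [mul_inv_eq_one] at e3
  have e4 : x⁻¹ * v * x = v := mul_left_cancel (mul_right_cancel e3)
  refine ⟨show x * v = v * x from ?_, ?_⟩
  · calc x * v = x * (x⁻¹ * v * x) := by rw [e4]
      _ = _ := by group
  · rw [e4] at hxq
    exact mul_right_cancel (mul_right_cancel hxq)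

/-! ### The centraliser -/

variable {w : K} (hw : w * w = w + 1)
include hw

omit [Fintype K] hn [CharP K 2] in
theorem w_ne : w ≠ 0 ∧ w ≠ 1 := by
  refine ⟨fun h => ?_, fun h => ?_⟩
  · rw [h, mul_zero, zero_add] at hw; exact zero_ne_one hw
  · rw [h, one_mul, left_eq_add] at hw; exact one_ne_zero hw

omit [Fintype K] hn in
theorem w_add_ne : w + 1 ≠ 0 := fun h => (w_ne hw).2 (CharTwo.add_eq_zero.1 h)

theorem xEl_mem : xEl w ∈ twistedE6 K (2 ^ 1) := by
  rw [← xEl_gGL]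
  exact mul_mem (gGL_mem hw hn 39 (by norm_num)) (gGL_mem hw hn 32 (by norm_num))

omit [Fintype K] hn in
theorem Mrep_x_eq : Mrep (xEl w) = !![1, w; w, w] := by
  rw [Mrep_xEl, hw, show w + 1 + 1 = w by rw [add_assoc, CharTwo.add_self_eq_zero, add_zero]]

omit [Fintype K] hn in
theorem trace_x : Matrix.trace (Mrep (xEl w)) = w + 1 := by
  rw [Mrep_x_eq hw, Matrix.trace_fin_two]
  simp [add_comm]

omit [Fintype K] hn hw in
theorem trace_conj {g h : GL chevE6.Idx K} (hg : g ∈ par K) (hh : h ∈ par K) :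
    Matrix.trace (Mrep (g * h * g⁻¹)) = Matrix.trace (Mrep h) := by
  rw [Mrep_mul (mul_mem hg hh) (inv_mem hg), Mrep_mul hg hh, Matrix.trace_mul_cycle,
    Mrep_inv_mul hg, one_mul]

omit [Fintype K] hn in
/-- A torus matrix has trace 0 or 1. -/
theorem trace_torus {z : K} (hz : z ^ 3 = 1) : z + z * z ≠ w + 1 := by
  intro h
  have two : (2 : K) = 0 := CharTwo.two_eq_zero
  have h1 : (z + 1) * (z * z + z + 1) = 0 := by linear_combination hz + (z * z + z + 1) * two
  rcases mul_eq_zero.1 h1 with h2 | h2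
  · obtain rfl : z = 1 := CharTwo.add_eq_zero.1 h2
    rw [one_mul, CharTwo.add_self_eq_zero] at h
    exact w_add_ne hw h.symm
  · exact (w_ne hw).1 (by linear_combination h2 - h - (1 : K) * two)

/-- Elements of the parabolic with trivial matrix commuting with the element of order five. -/
theorem kernel_mem {g : GL chevE6.Idx K} (hgG : g ∈ twistedE6 K (2 ^ 1)) (hgp : g ∈ par K)
    (hc : Commute (xEl w) g) (hM : Mrep g = 1) : g ∈ aGroup K := by
  rcases par_shapes hn hgG hgp with ⟨t, z, -, hshape, hrad⟩ |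
    ⟨-, -, -, -, -, -, -, t, t', z, hz3, hshape⟩
  · rw [hM, Matrix.one_fin_two] at hshape
    have e00 := congrFun (congrFun hshape 0) 0
    have e10 := congrFun (congrFun hshape 1) 0
    simp at e00 e10
    rw [← e00] at e10
    exact rad_mem_aGroup hn (w_ne hw).1 (w_add_ne hw) (hrad (by simpa using e10.symm) e00.symm) hgG hc
  · rw [hM, Matrix.one_fin_two] at hshape
    have e01 := congrFun (congrFun hshape 0) 1
    simp at e01
    rw [← e01] at hz3
    simp at hz3

omit [Fintype K] hn in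
theorem powers : Mrep (xEl w ^ 2) = !![w, 1; 1, 0] ∧ Mrep (xEl w ^ 3) = !![0, 1; 1, w] ∧
    Mrep (xEl w ^ 4) = !![w, w; w, 1] ∧ Mrep (xEl w ^ 5) = 1 := by
  have two : (2 : K) = 0 := CharTwo.two_eq_zero
  have ha : 1 + w * w = w := by linear_combination hw + two
  have hb : w + w * w = 1 := by linear_combination hw + w * two
  have M2 : (!![1, w; w, w] : Matrix (Fin 2) (Fin 2) K) * !![1, w; w, w] = !![w, 1; 1, 0] := by
    rw [Matrix.mul_fin_two]
    simp [ha, hb, CharTwo.add_self_eq_zero]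
  have M3 : (!![w, 1; 1, 0] : Matrix (Fin 2) (Fin 2) K) * !![1, w; w, w] = !![0, 1; 1, w] := by
    rw [Matrix.mul_fin_two]
    simp [add_comm (w * w), hb, CharTwo.add_self_eq_zero]
  have M4 : (!![0, 1; 1, w] : Matrix (Fin 2) (Fin 2) K) * !![1, w; w, w] = !![w, w; w, 1] := by
    rw [Matrix.mul_fin_two]
    simp [ha, hb]
  have M5 : (!![w, w; w, 1] : Matrix (Fin 2) (Fin 2) K) * !![1, w; w, w] = 1 := by
    rw [Matrix.mul_fin_two, Matrix.one_fin_two]
    simp [hb, add_comm (w * w), CharTwo.add_self_eq_zero]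
  rw [Mrep_pow (xEl_mem_par w), Mrep_pow (xEl_mem_par w), Mrep_pow (xEl_mem_par w),
    Mrep_pow (xEl_mem_par w), Mrep_x_eq hw]
  simp only [pow_succ, pow_zero, one_mul, M2, M3, M4, M5, and_self]

/-- The matrix of a centralising element of the parabolic is a power. -/
theorem exists_pow_matrix {g : GL chevE6.Idx K} (hgG : g ∈ twistedE6 K (2 ^ 1)) (hgp : g ∈ par K)
    (hc : Commute (xEl w) g) : ∃ j : ℕ, Mrep g = Mrep (xEl w ^ j) := by
  have hM := congrArg Mrep hc.eq
  rw [Mrep_mul (xEl_mem_par w) hgp, Mrep_mul hgp (xEl_mem_par w), Mrep_x_eq hw] at hM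
  have hw0 := (w_ne hw).1
  have two : (2 : K) = 0 := CharTwo.two_eq_zero
  rcases par_shapes hn hgG hgp with ⟨t, z, hz3, hshape, -⟩ |
    ⟨-, -, -, -, -, -, -, t, t', z, hz3, hshape⟩
  · refine ⟨0, ?_⟩
    rw [hshape, Matrix.mul_fin_two, Matrix.mul_fin_two] at hM
    have e00 := congrFun (congrFun hM 0) 0
    have e01 := congrFun (congrFun hM 0) 1
    simp at e00 e01
    have hz0 : z ≠ 0 := fun h => by simp [h] at hz3
    have ht : t = 0 := (e00.resolve_left hw0).resolve_right hz0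
    have hz1 : z = 1 := by
      have h : w * z * (z - 1) = 0 := by linear_combination e01
      exact sub_eq_zero.1 ((mul_eq_zero.1 h).resolve_left (mul_ne_zero hw0 hz0))
    rw [hshape, pow_zero, Mrep_one, ht, hz1, Matrix.one_fin_two]
    simp
  · rw [hshape] at hM
    obtain ⟨P, hP⟩ : ∃ P, P = z * t' := ⟨_, rfl⟩
    obtain ⟨R, hR⟩ : ∃ R, R = t * z * t' + z * z := ⟨_, rfl⟩
    obtain ⟨S, hS⟩ : ∃ S, S = t * z := ⟨_, rfl⟩
    have hdet : P * S + z * R = 1 := by
      linear_combination S * hP + z * hR + z * t' * hS + hz3 + z * z * t * t' * two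
    rw [← hP, ← hR, ← hS, Matrix.mul_fin_two, Matrix.mul_fin_two] at hM
    have e00 := congrFun (congrFun hM 0) 0
    have e01 := congrFun (congrFun hM 0) 1
    simp at e00 e01
    have eR : R = z := mul_left_cancel₀ hw0 (by linear_combination e00)
    have eS : S = P + w * z := by
      linear_combination -(w + 1) * e01 + (P + z - S) * hw + (w * (P + z - S) - w * z + (S * w + S * w * w - w * P - w * w * P - w * w * z + z)) * two
    have eq : P * (P + w * z) + z * z = 1 := by rw [← eS]; linear_combination hdet - z * eR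
    have hww := f4_cases hn hw
    obtain ⟨-, p3, -, -⟩ := powers hw
    obtain ⟨p2, -, p4, -⟩ := powers hw
    rw [hshape, ← hP, ← hR, ← hS, eR, eS]
    rcases hww P with h | h | h | h <;> rw [h] at eq ⊢
    · have hz : (z + 1) * (z + 1) = 0 := by linear_combination eq + (z + 1) * two
      have hz1 : z = 1 := CharTwo.add_eq_zero.1 (mul_self_eq_zero.1 hz)
      exact ⟨3, by rw [p3, hz1]; simp⟩
    · have hz1 : z = w := by
        have h : z * (z + w) = 0 := by linear_combination eq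
        exact CharTwo.add_eq_zero.1 ((mul_eq_zero.1 h).resolve_left fun h => by simp [h] at hz3)
      refine ⟨1, ?_⟩
      rw [pow_one, Mrep_x_eq hw, hz1, hw, show (1 : K) + (w + 1) = w by
        linear_combination two]
    · have h : (z + w) * (z + 1) = 0 := by linear_combination eq - (z + 1) * hw
      rcases mul_eq_zero.1 h with h | h
      · refine ⟨4, ?_⟩
        rw [p4, CharTwo.add_eq_zero.1 h, hw, show w + (w + 1) = 1 by linear_combination w * two]
      · refine ⟨2, ?_⟩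
        rw [p2, CharTwo.add_eq_zero.1 h, mul_one, CharTwo.add_self_eq_zero]
    · exfalso
      exact trace_torus hw hz3 (by
        linear_combination eq - (z + 1) * hw - (w * z + 2 * w + 1) * two)

/-- The centralising elements of the parabolic. -/
theorem par_centralizer {g : GL chevE6.Idx K} (hgG : g ∈ twistedE6 K (2 ^ 1)) (hgp : g ∈ par K)
    (hc : Commute (xEl w) g) : ∃ j : ℕ, ∃ h ∈ aGroup K, g = xEl w ^ j * h := by
  obtain ⟨j, hj⟩ := exists_pow_matrix hn hw hgG hgp hc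
  have hxp := pow_mem (xEl_mem_par w) j
  refine ⟨j, (xEl w ^ j)⁻¹ * g, kernel_mem hn hw
    (mul_mem (inv_mem (pow_mem (xEl_mem hn hw) j)) hgG) (mul_mem (inv_mem hxp) hgp)
    (((Commute.refl _).pow_right j).inv_right.mul_right hc) ?_, (mul_inv_cancel_left _ _).symm⟩
  rw [Mrep_mul (inv_mem hxp) hgp, hj, Mrep_inv_mul hxp]

/-- The checks on the representatives. -/
def cosetOK : Bool :=
  ((List.range 48).all fun a => !(Nat.ble 36 (look tT a 39)) ||
    !(Nat.beq (refl 1 (look tT a 39)) (look tT a 32)) || Nat.beq a 0 || Nat.beq a 17) &&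
  ([39, 37, 32, 34].all fun i => [39, 37, 32, 34].contains (look tT 0 i) &&
    [39, 37, 32, 34].contains (look tT 17 i))

omit hn hw [Fintype K] [CharP K 2] in
theorem coset_ok : cosetOK = true ∧ look tT 0 39 = 39 ∧ look tT 0 32 = 32 ∧
    look tT 17 39 = 37 ∧ look tT 17 32 = 34 ∧ look tT 0 37 = 37 ∧ look tT 0 34 = 34 ∧
    look tT 17 37 = 39 ∧ look tT 17 34 = 32 := by decide +kernel

omit hn hw [Fintype K] [CharP K 2] in
theorem wFun_four {a c : ℕ} (ha : a < 48) (hc : c < 24) {i : ℕ} (hi : i ∈ [39, 37, 32, 34]) :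
    wFun (tW.getD a [] ++ hW c) i = look tT a i := by
  have h : ∀ i ∈ [39, 37, 32, 34], i < 72 := by decide
  rw [permW_tables ha hc i (h i hi), hW_fix hc hi]

/-- An element of the form `p N r` with a good representative `N`, commuting with the element of
order five. -/
theorem stripped {a c : ℕ} (ha : a = 0 ∨ a = 17) (hc : c < 24) {p r : GL chevE6.Idx K}
    (hp : p ∈ par K) (hpG : p ∈ twistedE6 K (2 ^ 1))
    (hr : r ∈ (coreE6 K).Ucl (radS 1)) (hrG : r ∈ twistedE6 K (2 ^ 1))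
    (hcomm : Commute (p * NW (tW.getD a [] ++ hW c) * r) (xEl w)) :
    ∃ j : ℕ, ∃ h ∈ aGroup K, p * NW (tW.getD a [] ++ hW c) * r = xEl w ^ j * h := by
  have ha48 : a < 48 := by omega
  set L := tW.getD a [] ++ hW c with hL
  obtain ⟨-, t1, t2, t3, t4, t5, t6, t7, t8⟩ := coset_ok
  have himg : ∀ (i : ℕ) (hi : i < 72), i ∈ [39, 37, 32, 34] →
      (permW L (rtF ⟨i, hi⟩) : ℕ) = rt (look tT a i) := by
    intro i hi hi4
    rw [permW_rt]
    exact congrArg rt (wFun_four ha48 hc hi4)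
  have e42 : permW L r42 = r42 ∧ permW L r37 = r37 ∧ permW L r29 = r29 ∧ permW L r34 = r34 ∨
      permW L r42 = r37 ∧ permW L r37 = r42 ∧ permW L r29 = r34 ∧ permW L r34 = r29 := by
    simp only [r42, r37, r29, r34, Fin.ext_iff, himg 39 (by norm_num) (by simp),
      himg 37 (by norm_num) (by simp), himg 32 (by norm_num) (by simp),
      himg 34 (by norm_num) (by simp)]
    rcases ha with rfl | rfl
    · left; rw [t1, t2, t5, t6]; exact ⟨rfl, rfl, rfl, rfl⟩
    · right; rw [t3, t4, t7, t8]; exact ⟨rfl, rfl, rfl, rfl⟩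
  have hp42 : chevE6.IsPosRoot r42 := by decide +kernel
  have hp37 : chevE6.IsPosRoot r37 := by decide +kernel
  have hmv : (coreE6 K).Moves (NW L) (permW L) := NW_moves L
  have hcσ := (frobE6 K 2 1).commute_of_fixed (NW_mono L) hmv (act_of_mem hn (NW_mem L)).2
  have h42 : chevE6.IsPosRoot (permW L r42) := by
    rcases e42 with ⟨e, -⟩ | ⟨e, -⟩ <;> rw [e] <;> assumption
  have hneg : ∀ s, chevE6.IsPosRoot s.val → chevE6.IsNegRoot (permW L s) →
      (permW L s : ℕ) ∈ negS := by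
    intro s hs hns
    refine ⟨(permW L s).isLt, (nn_roots (permW L s)).resolve_left fun hnn => ?_⟩
    have hn29 : ¬ chevE6.IsPosRoot r29 ∧ ¬ chevE6.IsPosRoot r34 := by decide +kernel
    obtain ⟨⟨-, -, v29, v34⟩, -⟩ := levi_facts
    rcases (root_facts (permW L s)).2.1 hnn with h | h | h
    · exact rootDataE6.not_pos_and_neg h hns
    · have h' : permW L s = r29 := Fin.ext (h.trans v29.symm)
      rcases e42 with ⟨-, -, e, -⟩ | ⟨-, -, -, e⟩ <;>
        rw [← e] at h' <;> have := (permW L).injective h' <;> subst this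
      · exact hn29.1 hs
      · exact hn29.2 hs
    · have h' : permW L s = r34 := Fin.ext (h.trans v34.symm)
      rcases e42 with ⟨-, -, -, e⟩ | ⟨-, -, e, -⟩ <;>
        rw [← e] at h' <;> have := (permW L).injective h' <;> subst this
      · exact hn29.2 hs
      · exact hn29.1 hs
  have hconj : ∀ w' : K, gGL w (look tT a 39) * gGL w (look tT a 32) = xEl w' →
      NW L * xEl w * (NW L)⁻¹ = xEl w' := fun w' h => by
    rw [← h, ← wFun_four (c := c) ha48 hc (i := 39) (by simp),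
      ← wFun_four (c := c) ha48 hc (i := 32) (by simp), ← hL,
      ← NW_gGL w L (by norm_num : 39 < 72), ← NW_gGL w L (by norm_num : 32 < 72), ← xEl_gGL]
    group
  rcases ha with rfl | rfl
  · obtain ⟨p', hp', hp'G, v, hv, hvG, e, hcv, hcp⟩ := strip hn (NW_mono L) (NW_mem L) hmv hcσ h42
      (pos_r37 hcσ h42) hneg (hconj w (by rw [t1, t2]; exact xEl_gGL w)) hp hpG hr hrG hcomm
    obtain ⟨j, h, hh, rfl⟩ := par_centralizer hn hw hp'G hp' hcp
    refine ⟨j, h * NW L * v, mul_mem (mul_mem hh ?_)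
      (rad_mem_aGroup hn (w_ne hw).1 (w_add_ne hw) hv hvG hcv), e.trans (by simp only [mul_assoc])⟩
    rw [hL, nnIdx_facts.2.1, List.nil_append]
    exact hW_mem c
  · exfalso
    obtain ⟨p', hp', -, v, -, -, -, -, hcp⟩ := strip hn (NW_mono L) (NW_mem L) hmv hcσ h42
      (pos_r37 hcσ h42) hneg (hconj (w + 1) (by rw [t3, t4]; exact xEl_swap w)) hp hpG hr hrG hcomm
    have e1 : p' * xEl (w + 1) * p'⁻¹ = xEl w := by rw [← hcp, mul_inv_cancel_right]
    have e2 := trace_conj hp' (xEl_mem_par (w + 1))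
    rw [e1, trace_x hw, Mrep_xEl, Matrix.trace_fin_two] at e2
    have two : (2 : K) = 0 := CharTwo.two_eq_zero
    simp at e2
    exact one_ne_zero (α := K) (by linear_combination -e2 - hw - (w + 1) * two)

/-- The centraliser of the element of order five. -/
theorem centralizer_le {g : GL chevE6.Idx K} (hgG : g ∈ twistedE6 K (2 ^ 1))
    (hg : Commute g (xEl w)) : ∃ j : ℕ, ∃ h ∈ aGroup K, g = xEl w ^ j * h := by
  obtain ⟨u, ⟨hu, huG⟩, n, ⟨hnN, hnG⟩, v, ⟨hv, hvG⟩, -, rfl⟩ :=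
    (gensE6 K hn (by norm_num)).twist.nf hgG
  obtain ⟨N', σ, hN', hN'G, hmv, hcσ, h42, h42', e₁, he₁, e₂, he₂, rfl⟩ := exists_good hnN hnG hn
  have hs2 : ∀ e ∈ ({1, nK 1} : Set (GL chevE6.Idx K)),
      e ∈ levU K ∧ e ∈ twistedE6 K (2 ^ 1) := by
    rintro e (rfl | rfl)
    · exact ⟨one_mem _, one_mem _⟩
    · exact ⟨s_mem_levU, Schur.E6Two.nK_mem 1⟩
  obtain ⟨t, r, hr, hrG, hvsp⟩ := vsplit hn hv hvG
  set p := u * e₁ with hpdef
  set l := e₂ * ((coreE6 K).xGL 42 t * (coreE6 K).xGL 37 (t * t)) with hldef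
  have hl : l ∈ levU K := mul_mem (hs2 _ he₂).1 (mul_mem
    ((coreE6 K).xGL_mem_Ucl (S := {r | r ∈ leviR}) (by simp [leviR]) _)
    ((coreE6 K).xGL_mem_Ucl (S := {r | r ∈ leviR}) (by simp [leviR]) _))
  have hlG : l ∈ twistedE6 K (2 ^ 1) :=
    mul_mem (hs2 _ he₂).2 (levi_half_mem hn hrG hvG hvsp)
  have hpp : p ∈ par K := mul_mem (posUnipotent_le_par hu) (levU_le_par (hs2 _ he₁).1)
  have hpG : p ∈ twistedE6 K (2 ^ 1) := mul_mem huG (hs2 _ he₁).2
  have eg : u * (e₁ * N' * e₂) * v = p * N' * (l * r) := by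
    rw [hvsp, hpdef, hldef]; simp only [mul_assoc]
  rw [eg] at hgG hg ⊢
  obtain ⟨a, ha, c, hc, rfl⟩ := twist_isCoset K hn hmv.1 hcσ
  set L := tW.getD a [] ++ hW c with hL
  by_cases hgood : a = 0 ∨ a = 17
  · obtain ⟨d, hd⟩ : ∃ d, d = N' * (NW L)⁻¹ := ⟨_, rfl⟩
    have hdd : d ∈ chevE6.diagonalSubgroup K := by
      refine hd ▸ (coreE6 K).mem_diagonal_of_moves_one (mul_mem hN' (inv_mem (NW_mono L))) ?_
      have := ChevCore.Moves.mul (coreE6 K) hmv
        (ChevCore.Moves.inv (coreE6 K) (NW_mono L) (NW_moves L))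
      rwa [mul_inv_cancel] at this
    have hl' : NW L * l * (NW L)⁻¹ ∈ levU K := by
      refine (coreE6 K).conj_Ucl_le (NW_moves L) (fun s hs t => ?_) l hl
      refine (coreE6 K).xGL_mem_Ucl (S := {r | r ∈ leviR}) ?_ t
      have hidx : ∀ r ∈ leviR, ∃ i, i ∈ [39, 37, 32, 34] ∧ ∃ h : i < 72, rt i = r := by
        decide +kernel
      obtain ⟨i, hi4, hi, hri⟩ := hidx _ hs
      rw [show s = rtF ⟨i, hi⟩ from Fin.ext hri.symm, permW_rt]
      show rt (wFun L i) ∈ leviR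
      rw [hL, wFun_four ha hc hi4]
      have h := coset_ok.1
      simp only [cosetOK, Bool.and_eq_true, List.all_eq_true, List.contains_iff_mem] at h
      have hrt : ∀ j ∈ [39, 37, 32, 34], rt j ∈ leviR := by decide +kernel
      rcases hgood with rfl | rfl
      · exact hrt _ (h.2 i hi4).1
      · exact hrt _ (h.2 i hi4).2
    have e : p * N' * (l * r) = p * d * (NW L * l * (NW L)⁻¹) * NW L * r := by
      rw [hd]; group
    rw [e] at hg ⊢
    exact stripped hn hw hgood hc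
      (mul_mem (mul_mem hpp (diag_le_par hdd)) (levU_le_par hl'))
      (mul_mem (mul_mem hpG (hd ▸ mul_mem hN'G (inv_mem (NW_mem L))))
        (mul_mem (mul_mem (NW_mem L) hlG) (inv_mem (NW_mem L)))) hr hrG hg
  · exfalso
    have hqp : l * r ∈ par K := mul_mem (levU_le_par hl) (Ucl_radS_le_par 1 hr)
    have hqG : l * r ∈ twistedE6 K (2 ^ 1) := mul_mem hlG hrG
    obtain ⟨q, hqdef⟩ : ∃ q, q = l * r := ⟨_, rfl⟩
    rw [← hqdef] at hg hqp hqG
    obtain ⟨x', hx'⟩ : ∃ x', x' = q * xEl w * q⁻¹ := ⟨_, rfl⟩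
    obtain ⟨y, hy⟩ : ∃ y, y = p⁻¹ * xEl w * p := ⟨_, rfl⟩
    have hxG := xEl_mem hn hw
    have eny : N' * x' = y * N' := by
      calc N' * x' = p⁻¹ * (p * N' * q * xEl w) * q⁻¹ := by rw [hx']; group
        _ = p⁻¹ * (xEl w * (p * N' * q)) * q⁻¹ := by rw [hg.eq]
        _ = _ := by rw [hy]; group
    have shape : ∀ {z : GL chevE6.Idx K}, z ∈ twistedE6 K (2 ^ 1) → z ∈ par K →
        Matrix.trace (Mrep z) = w + 1 → ∃ b ∈ chevE6.borelSubgroup K,
          ∃ v' ∈ chevE6.borelSubgroup K, z = b * nK 1 * v' := by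
      intro z hzG hzp htr
      rcases par_shapes hn hzG hzp with ⟨t, z0, hz3, hshape, -⟩ |
        ⟨u', hu', d', hd', v', hv', e', -⟩
      · rw [hshape, Matrix.trace_fin_two] at htr
        exact absurd (by simpa using htr) (trace_torus hw hz3)
      · exact ⟨u' * d', mul_mem (le_sup_left (b := chevE6.diagonalSubgroup K) hu')
          (le_sup_right (a := chevE6.posUnipotent K) hd'), v',
          le_sup_left (b := chevE6.diagonalSubgroup K) hv', e'⟩
    obtain ⟨b, hb, v', hv', ex⟩ := shape (z := x') (hx' ▸ mul_mem (mul_mem hqG hxG) (inv_mem hqG))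
      (hx' ▸ mul_mem (mul_mem hqp (xEl_mem_par w)) (inv_mem hqp))
      (by rw [hx', trace_conj hqp (xEl_mem_par w), trace_x hw])
    obtain ⟨b₁, hb₁, v₁, hv₁, ey⟩ := shape (z := y) (hy ▸ mul_mem (mul_mem (inv_mem hpG) hxG) hpG)
      (hy ▸ mul_mem (mul_mem (inv_mem hpp) (xEl_mem_par w)) hpp)
      (by
        have h := trace_conj (inv_mem hpp) (xEl_mem_par w)
        rw [inv_inv] at h
        rw [hy, h, trace_x hw])
    have c1 : N' * x' ∈ (coreE6 K).bigCell (N' * nK 1) := by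
      have h := (coreE6 K).bigCell_mul (cell_step hN' hmv h42 (pos_r37 hcσ h42) hb) (one_mem _) hv'
      rw [ex]
      simpa [mul_assoc] using h
    have c2 : y * N' ∈ (coreE6 K).bigCell (nK 1 * N') := by
      have hm := ChevCore.Moves.inv (coreE6 K) hN' hmv
      have h := (coreE6 K).inv_mem_bigCell (cell_step (inv_mem hN') hm h42'
        (pos_r37 hcσ.inv_right h42') (inv_mem hv₁))
      have h' := (coreE6 K).bigCell_mul h hb₁ (one_mem _)
      simp only [_root_.mul_inv_rev, inv_inv, s_inv, mul_one] at h'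
      rw [ey]
      simpa [mul_assoc] using h'
    have hmem : N' * nK 1 ∈ (coreE6 K).bigCell (nK 1 * N') :=
      (coreE6 K).bigCell_trans ((coreE6 K).bigCell_symm c1) (eny ▸ c2)
    have hperm := (coreE6 K).moves_eq_of_mem (mul_mem hN' (nK_mono 1)) (mul_mem (nK_mono 1) hN')
      (ChevCore.Moves.mul (coreE6 K) hmv s_moves) (ChevCore.Moves.mul (coreE6 K) s_moves hmv) hmem
    have h39 := Equiv.Perm.ext_iff.1 hperm r42
    rw [Equiv.Perm.mul_apply, Equiv.Perm.mul_apply, levi_facts.2.2.1.1] at h39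
    rw [r42, r29, permW_rt, permW_rt, permW_rt] at h39
    have h39' : wFun L 32 = refl (gen4 1).val (wFun L 39) :=
      rt_inj (wFun_lt L (by norm_num)) (wFun_lt [1] (wFun_lt L (by norm_num)))
        (congrArg Fin.val h39)
    rw [hL, wFun_four ha hc (by simp), wFun_four ha hc (by simp)] at h39'
    have hpos : 36 ≤ look tT a 39 := by
      rw [r42, permW_rt] at h42
      have h : chevE6.IsPosRoot (rt (wFun L 39)) := h42
      rw [hL, wFun_four ha hc (by simp)] at h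
      have hlt : look tT a 39 < 72 := by
        rw [← wFun_four ha hc (by simp : 39 ∈ [39, 37, 32, 34])]
        exact wFun_lt _ (by norm_num)
      exact (Schur.E6Two.index_check _ hlt).2.1.2 h
    have h := coset_ok.1
    simp only [cosetOK, Bool.and_eq_true, List.all_eq_true, List.mem_range, Bool.or_eq_true,
      Bool.not_eq_true'] at h
    have h2 : refl 1 (look tT a 39) = look tT a 32 := h39'.symm
    rcases h.1 a ha with ((h1 | h1) | h1) | h1
    · rw [← Bool.not_eq_true, Nat.ble_eq] at h1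
      exact h1 hpos
    · rw [h2, Nat.beq_refl] at h1
      exact Bool.noConfusion h1
    · exact hgood (Or.inl (Nat.eq_of_beq_eq_true h1))
    · exact hgood (Or.inr (Nat.eq_of_beq_eq_true h1))

end CfsgLib.TwistFive
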